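import Groth.Agent.S0563
import Groth.Agent.Flat2H.TorDimPoly
import Mathlib.RingTheory.Flat.Localization
import Mathlib.AlgebraicGeometry.AffineScheme
import Mathlib.Algebra.Module.LocalizedModule.Exact
import Mathlib.Topology.KrullDimension

/-!
# Modules over regular rings of finite dimension have finite tor dimension
-/

set_option autoImplicit false
set_option linter.style.haveILetI false
set_option backward.isDefEq.respectTransparency false
set_option backward.isDefEq.respectTransparency.types false

universe u

open Groth.Agent.Flat2H.TorDim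

namespace K56.RP

theorem hasTorDimLE_localized_ker {R : Type u} [CommRing R] {K F N : Type u} [AddCommGroup K] [Module R K]
    [AddCommGroup F] [Module R F] [AddCommGroup N] [Module R N] [Module.Flat R F] (i : K →ₗ[R] F) (f : F →ₗ[R] N)
    (hi : Function.Injective i) (hf : Function.Surjective f) (hif : Function.Exact i f) (n : ℕ) (P : Ideal R)
    [P.IsPrime] (H : DRing.HasTorDimLE (Localization.AtPrime P) (n + 1) (LocalizedModule P.primeCompl N)) :
    DRing.HasTorDimLE (Localization.AtPrime P) n (LocalizedModule P.primeCompl K) :=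
  (hasTorDimLE_succ_iff (LocalizedModule.map P.primeCompl i) (LocalizedModule.map P.primeCompl f)
    (LocalizedModule.map_injective _ _ hi) (LocalizedModule.map_surjective _ _ hf)
    (LocalizedModule.map_exact P.primeCompl i f hif) n).1 H

/-- tor dimension is local -/
theorem hasTorDimLE_of_localized {R : Type u} [CommRing R] (n : ℕ) : ∀ (N : Type u) [AddCommGroup N] [Module R N],
    (∀ (P : Ideal R) [P.IsMaximal], DRing.HasTorDimLE (Localization.AtPrime P) n (LocalizedModule P.primeCompl N)) →
      DRing.HasTorDimLE R n N := by
  induction n with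
  | zero =>
    intro N _ _ H
    rw [hasTorDimLE_zero_iff]
    refine Module.flat_of_localized_maximal N fun P _ => ?_
    haveI := hasTorDimLE_zero_iff.1 (H P)
    exact Module.Flat.trans R (Localization.AtPrime P) _
  | succ n ih =>
    intro N _ _ H
    let f : (N →₀ R) →ₗ[R] N := Finsupp.linearCombination R id
    have hf : Function.Surjective f := Finsupp.linearCombination_id_surjective R N
    rw [hasTorDimLE_succ_iff_ker f hf]
    refine ih _ fun P _ => ?_
    exact hasTorDimLE_localized_ker (LinearMap.ker f).subtype f Subtype.val_injective hf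
      (LinearMap.exact_subtype_ker_map f) n P (H P)

/-- over a regular local ring every module has tor dimension at most the dimension -/
theorem hasTorDimLE_regular {R : Type u} [CommRing R] [IsRegularLocalRing R] {n : ℕ} (h : ringKrullDim R ≤ n)
    (N : Type u) [AddCommGroup N] [Module R N] : DRing.HasTorDimLE R n N := by
  obtain ⟨d, hd⟩ : ∃ d : ℕ, ringKrullDim R = d :=
    ⟨_, ((IsRegularLocalRing.iff_finrank_cotangentSpace R).1 inferInstance).symm⟩
  have h1 : d ≤ n := by
    rw [hd] at h
    exact_mod_cast h
  exact HasTorDimLE.mono (Groth.Agent.Flat2H.TorDimPoly.hasTorDimLE_of_hasProjectiveDimensionLE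
    (Groth.Agent.S0563.result R d hd N)) h1

open AlgebraicGeometry in
/-- affine schemes with regular local rings of dimension at most `n` -/
theorem hasTorDimLE_of_stalk {X : Scheme.{u}} [IsAffine X] {n : ℕ}
    (h : ∀ x : X, IsRegularLocalRing (X.presheaf.stalk x) ∧ ringKrullDim (X.presheaf.stalk x) ≤ n)
    (N : Type u) [AddCommGroup N] [Module Γ(X, ⊤) N] : DRing.HasTorDimLE Γ(X, ⊤) n N := by
  refine hasTorDimLE_of_localized n N fun P hP => ?_
  have hX := isAffineOpen_top X
  let y : PrimeSpectrum Γ(X, ⊤) := ⟨P, hP.isPrime⟩
  have h0 : hX.fromSpec y ∈ (⊤ : X.Opens) := trivial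
  letI := TopCat.Presheaf.algebra_section_stalk X.presheaf ⟨hX.fromSpec y, h0⟩
  haveI h1 : IsLocalization.AtPrime (X.presheaf.stalk (hX.fromSpec y)) P := hX.isLocalization_stalk' y h0
  obtain ⟨h2, h3⟩ := h (hX.fromSpec y)
  let e : (X.presheaf.stalk (hX.fromSpec y)) ≃+* Localization.AtPrime P :=
    (IsLocalization.algEquiv P.primeCompl (X.presheaf.stalk (hX.fromSpec y)) (Localization.AtPrime P)).toRingEquiv
  haveI h4 : IsRegularLocalRing (Localization.AtPrime P) := IsRegularLocalRing.of_ringEquiv e
  exact hasTorDimLE_regular ((ringKrullDim_eq_of_ringEquiv e).symm.trans_le h3) _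

end K56.RP
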