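import Groth.Agent.ResProp.K56.Chart
import Groth.Agent.ResProp.K56.RegTor

/-!
# Flat quotients on stacks with affine diagonal and a chart of finite weak dimension
-/

set_option autoImplicit false
set_option linter.style.haveILetI false
set_option backward.isDefEq.respectTransparency false
set_option backward.isDefEq.respectTransparency.types false

universe w'' v'' w' v' w v u

open CategoryTheory CategoryTheory.Limits AlgebraicGeometry Opposite StMod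
open K784.PM K784.Geo K741.RP K741 K734.Fib K606.YonSec

namespace K56.RP

variable {S : Scheme.{u}} {𝒳 : AlgSt.Cat S}

/-- an affine flat surjective chart by an affine scheme has products -/
theorem hasProd_chart [IsAffine S] (h𝒳 : FibCat.IsFibGrpd 𝒳.p)
    (hΔ : AlgSt.RepByAlgSpWith AlgSp.IsAffineMor (FibCat.diag (FibCat.toSelf 𝒳)))
    {U : Over S} [hU : IsAffine U.left] (u : FibCat.overCat U ⥤ᵇ 𝒳)
    (huf : AlgSt.RepByAlgSpWith (AlgSp.LocP @Flat) u) (hus : AlgSt.RepByAlgSpWith AlgSp.IsSurjectiveMor u) :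
    HasProd (u.obj (K734.Fib.one U)) := by
  haveI hfr : (AlgSp.LocP (S := S) @Flat).RespectsIso := K735.Top.locP_respectsIso _
  haveI hsr : (AlgSp.IsSurjectiveMor (S := S)).RespectsIso :=
    MorphismProperty.RespectsIso.mk _ (fun e f hf => surj_comp (surj_of_isIso _) hf)
      (fun e f hf => surj_comp hf (surj_of_isIso _))
  haveI hir : (AlgSp.IsAffineMor (S := S) ⊓ AlgSp.LocP @Flat).RespectsIso := inferInstance
  have hx : AlgSt.RepByAlgSpWith AFS u :=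
    repByAlgSpWith_inf h𝒳 (repByAlgSpWith_inf h𝒳 (affine_of_affine h𝒳 hΔ hU u) huf) hus
  exact fun ξ hξ => exists_prod h𝒳 hx ξ hξ

/-- finite flat dimension of one module -/
theorem exists_flat_of_chart [IsAffine S] (h𝒳 : FibCat.IsFibGrpd 𝒳.p)
    (hΔ : AlgSt.RepByAlgSpWith AlgSp.IsAffineMor (FibCat.diag (FibCat.toSelf 𝒳)))
    {U : Over S} [hU : IsAffine U.left] (u : FibCat.overCat U ⥤ᵇ 𝒳)
    (huf : AlgSt.RepByAlgSpWith (AlgSp.LocP @Flat) u) (hus : AlgSt.RepByAlgSpWith AlgSp.IsSurjectiveMor u)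
    (M : QCoh 𝒳) (n : ℕ)
    (hn : DRing.HasTorDimLE Γ(sch 𝒳 (u.obj (K734.Fib.one U)), ⊤) n Γ(M.obj.obj (u.obj (K734.Fib.one U)), ⊤)) :
    ∃ (F : QCoh 𝒳) (q : F ⟶ M), (∀ ξ : 𝒳.obj, FlatMod.IsFlat (F.obj.obj ξ)) ∧ StMod.Mod.IsSurj q.hom := by
  have e₀ : sch 𝒳 (u.obj (K734.Fib.one U)) = U.left :=
    congrArg (fun T : Over S => T.left) (u.w_obj (K734.Fib.one U))
  have hA : IsAffine (sch 𝒳 (u.obj (K734.Fib.one U))) := by rw [e₀]; exact hU
  exact exists_flat h𝒳 (x₀ := ⟨u.obj (K734.Fib.one U), hA⟩) (hasProd_chart h𝒳 hΔ u huf hus) n M hn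

/-- finite weak dimension of the chart -/
theorem exists_flat_of_chart' [IsAffine S] (h𝒳 : FibCat.IsFibGrpd 𝒳.p)
    (hΔ : AlgSt.RepByAlgSpWith AlgSp.IsAffineMor (FibCat.diag (FibCat.toSelf 𝒳)))
    {U : Over S} [hU : IsAffine U.left] (u : FibCat.overCat U ⥤ᵇ 𝒳)
    (huf : AlgSt.RepByAlgSpWith (AlgSp.LocP @Flat) u) (hus : AlgSt.RepByAlgSpWith AlgSp.IsSurjectiveMor u)
    (n : ℕ) (hn : ∀ (N : Type u) [AddCommGroup N] [Module Γ(U.left, ⊤) N], DRing.HasTorDimLE Γ(U.left, ⊤) n N)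
    (M : QCoh 𝒳) :
    ∃ (F : QCoh 𝒳) (q : F ⟶ M), (∀ ξ : 𝒳.obj, FlatMod.IsFlat (F.obj.obj ξ)) ∧ StMod.Mod.IsSurj q.hom := by
  have e₀ : sch 𝒳 (u.obj (K734.Fib.one U)) = U.left :=
    congrArg (fun T : Over S => T.left) (u.w_obj (K734.Fib.one U))
  have h1 : ∀ (N : Type u) [AddCommGroup N] [Module Γ(sch 𝒳 (u.obj (K734.Fib.one U)), ⊤) N],
      DRing.HasTorDimLE Γ(sch 𝒳 (u.obj (K734.Fib.one U)), ⊤) n N := by
    rw [e₀]
    exact hn
  exact exists_flat_of_chart h𝒳 hΔ u huf hus M n (h1 _)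

/-- regular charts -/
theorem exists_flat_of_regular [IsAffine S] (h𝒳 : FibCat.IsFibGrpd 𝒳.p)
    (hΔ : AlgSt.RepByAlgSpWith AlgSp.IsAffineMor (FibCat.diag (FibCat.toSelf 𝒳)))
    {U : Over S} [hU : IsAffine U.left] (u : FibCat.overCat U ⥤ᵇ 𝒳)
    (huf : AlgSt.RepByAlgSpWith (AlgSp.LocP @Flat) u) (hus : AlgSt.RepByAlgSpWith AlgSp.IsSurjectiveMor u)
    (hreg : ∀ x : U.left, IsRegularLocalRing (U.left.presheaf.stalk x)) (n : ℕ) (hdim : topologicalKrullDim U.left ≤ n)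
    (M : QCoh 𝒳) :
    ∃ (F : QCoh 𝒳) (q : F ⟶ M), (∀ ξ : 𝒳.obj, FlatMod.IsFlat (F.obj.obj ξ)) ∧ StMod.Mod.IsSurj q.hom :=
  exists_flat_of_chart' h𝒳 hΔ u huf hus n (fun N _ _ => hasTorDimLE_of_stalk (fun x => ⟨hreg x,
    (K624.DimInt.stalkDim_le_topologicalKrullDim U.left x).trans hdim⟩) N) M

end K56.RP
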