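import Groth.Agent.ResProp.K56.FinFlat
import Groth.Agent.AlgSt.K736.Zmt.Charts2

/-!
# Affine flat charts of stacks with affine diagonal
-/

set_option autoImplicit false
set_option linter.style.haveILetI false
set_option backward.isDefEq.respectTransparency false
set_option backward.isDefEq.respectTransparency.types false

universe w'' v'' w' v' w v u

open CategoryTheory CategoryTheory.Limits AlgebraicGeometry Opposite StMod
open K784.PM K784.Geo K741.RP K741 K734.Fib K606.YonSec

namespace K56.RP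

variable {S : Scheme.{u}} {𝒳 : AlgSt.Cat S}

/-- a morphism from an affine scheme to a stack with affine diagonal is affine -/
theorem affine_of_affine [IsAffine S] (h𝒳 : FibCat.IsFibGrpd 𝒳.p)
    (hΔ : AlgSt.RepByAlgSpWith AlgSp.IsAffineMor (FibCat.diag (FibCat.toSelf 𝒳)))
    {U : Over S} (hU : IsAffine U.left) (x : FibCat.overCat U ⥤ᵇ 𝒳) : AlgSt.RepByAlgSpWith AlgSp.IsAffineMor x := by
  have h1 : AlgSt.RepByAlgSpWith AlgSp.IsAffineMor (BasedFunctor.comp x (FibCat.toSelf 𝒳)) := by
    have h2 : AlgSt.RepByAlgSpWith AlgSp.IsAffineMor (AlgSt.overMap (Over.mkIdTerminal.from U)) := by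
      refine K746.DiagFin.repByAlgSpWith_overMap (P := @IsAffineHom)
        (fun A B f hf => K597.Affine.isAffineMor_of_repWith hf) _ ((AlgSp.repWith_yon_map_iff _ _).2 ?_)
      have : IsAffine (Over.mk (𝟙 S) : Over S).left := ‹IsAffine S›
      infer_instance
    have h3 : AlgSt.RepByAlgSpWith AlgSp.IsAffineMor (FibCat.toSelf (FibCat.overCat U)) :=
      (K735.Rep.repByAlgSpWith_iff_of_sq _ (FibCat.toSelf (FibCat.overCat U))
        (AlgSt.overMap (Over.mkIdTerminal.from U)) (BasedFunctor.id _)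
        (FibCat.toSelf (FibCat.overCat (Over.mk (𝟙 S)))) K735.Fib.isEquivOver_id
        (K740.DiagRep.isEquivOver_toSelf_overCat Over.mkIdTerminal) (K739.Alg.selfIso _ _)).2 h2
    exact K735.Rep.repByAlgSpWith_of_iso _ (K739.Alg.selfIso _ _) h3
  exact K739.ChartDiag.repByAlgSpWith_of_comp (P := AlgSp.IsAffineMor) (Q := AlgSp.IsAffineMor)
    (R := AlgSp.IsAffineMor) stableBC_affine isLocalOnBase_affine
    (fun X Y Z hX hY hZ a b ha hb => K605.LimMor.isAffineMor_comp ha hb) (isFibGrpd_overCat _) h𝒳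
    K735.Fp.isFibGrpd_selfOver _ _ h1 hΔ

end K56.RP
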