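import Groth.Agent.ResProp.K56.DMRel

/-!
# Étale dévissage: combinatorics of the idempotents over the locus of pairwise distinct points
-/

set_option autoImplicit false
set_option backward.isDefEq.respectTransparency false
set_option backward.isDefEq.respectTransparency.types false
set_option linter.unusedSectionVars false
set_option linter.style.haveILetI false

open CategoryTheory Opposite

namespace K56.DM

open K784.BC K784.PM K741.RP K56.RP

universe w₂ w₁ v₁ u₁ u

section Alg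

variable {R : Type*} [CommRing R]

theorem flat_cut_of_flat (r : R) (hr : r * r = r) (N : Type*) [AddCommGroup N] [Module R N] [Module.Flat R N] :
    Module.Flat R (cut r N) := by
  refine Module.Flat.of_retract (cut r N).subtype ((LinearMap.lsmul R N r).codRestrict (cut r N) fun n => ?_) ?_
  · rw [mem_cut, LinearMap.lsmul_apply, smul_smul, hr]
  · ext n
    exact mem_cut.1 n.2

theorem flat_cut_zero (N : Type*) [AddCommGroup N] [Module R N] : Module.Flat R (cut (0 : R) N) := by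
  have h : Subsingleton (cut (0 : R) N) := ⟨fun a b => by
    apply Subtype.ext
    rw [← mem_cut.1 a.2, ← mem_cut.1 b.2, zero_smul, zero_smul]⟩
  infer_instance

/-- covering by idempotents -/
theorem flat_cut_of_cover {J : Type} [Fintype J] (ε : R) (hε : ε * ε = ε) (η : J → R) (hη : ∀ k, η k * η k = η k)
    (h0 : ε * ∏ k, (1 - η k) = 0) (N : Type*) [AddCommGroup N] [Module R N]
    (hfl : ∀ k, Module.Flat R (cut (η k) N)) : Module.Flat R (cut ε N) := by
  classical
  have h1 : ε ∈ Ideal.span (Set.range η) := by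
    rw [← Ideal.Quotient.eq_zero_iff_mem]
    have h2 : Ideal.Quotient.mk (Ideal.span (Set.range η)) (ε * ∏ k, (1 - η k)) = 0 := by rw [h0, map_zero]
    rw [map_mul, map_prod, Finset.prod_eq_one, mul_one] at h2
    · exact h2
    · intro k _
      have h3 : η k ∈ Ideal.span (Set.range η) := Ideal.subset_span ⟨k, rfl⟩
      rw [map_sub, map_one, Ideal.Quotient.eq_zero_iff_mem.2 h3, sub_zero]
  obtain ⟨v, hv⟩ := (Ideal.mem_span_range_iff_exists_fun).1 h1
  haveI : Module.Flat R (∀ k, cut (η k) N) :=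
    Module.Flat.of_linearEquiv (DirectSum.linearEquivFunOnFintype R J (fun k => cut (η k) N)).symm
  let i : cut ε N →ₗ[R] (∀ k, cut (η k) N) := LinearMap.pi fun k =>
    ((LinearMap.lsmul R N (η k)).codRestrict (cut (η k) N) fun n => by
      rw [mem_cut, LinearMap.lsmul_apply, smul_smul, hη]).comp (cut ε N).subtype
  let r : (∀ k, cut (η k) N) →ₗ[R] cut ε N :=
    ((LinearMap.lsmul R N ε).codRestrict (cut ε N) fun n => by
      rw [mem_cut, LinearMap.lsmul_apply, smul_smul, hε]).comp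
        (∑ k, (LinearMap.lsmul R N (v k)).comp ((cut (η k) N).subtype.comp (LinearMap.proj k)))
  refine Module.Flat.of_retract i r ?_
  ext n
  change ε • (∑ k, (LinearMap.lsmul R N (v k)).comp ((cut (η k) N).subtype.comp (LinearMap.proj k))) (i n) = n.1
  rw [LinearMap.sum_apply]
  have h3 : ∀ k, ((LinearMap.lsmul R N (v k)).comp ((cut (η k) N).subtype.comp (LinearMap.proj k))) (i n) =
      (v k * η k) • n.1 := fun k => smul_smul (v k) (η k) n.1
  rw [Finset.sum_congr rfl fun k _ => h3 k, ← Finset.sum_smul, hv, smul_smul, hε]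
  exact mem_cut.1 n.2

variable {B : Type*} [CommRing B]

theorem mem_of_bc_surj {φ : R →+* B} (hφ : Function.Surjective φ) {M N : Type*} [AddCommGroup M] [Module R M]
    [AddCommGroup N] [Module B N] {f : M →+ N} (h : IsBC φ f) {n : M} (hn : f n = 0) :
    n ∈ RingHom.ker φ • (⊤ : Submodule R M) := by
  let e : B ≃+* R ⧸ RingHom.ker φ := (RingHom.quotientKerEquivOfSurjective hφ).symm
  letI : Module B (M ⧸ RingHom.ker φ • (⊤ : Submodule R M)) := Module.compHom _ (e : B →+* R ⧸ RingHom.ker φ)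
  have he : ∀ a, e (φ a) = Ideal.Quotient.mk _ a := fun a => by
    rw [RingEquiv.symm_apply_eq]
    rfl
  obtain ⟨g, hg, -⟩ := h.existsUnique_lift (Q := M ⧸ RingHom.ker φ • (⊤ : Submodule R M))
    (Submodule.mkQ _).toAddMonoidHom (fun a m => by
      change Submodule.mkQ _ (a • m) = e (φ a) • (Submodule.mkQ _ m : M ⧸ RingHom.ker φ • (⊤ : Submodule R M))
      rw [he, map_smul]
      rfl)
  have h1 := hg n
  rw [hn, map_zero] at h1
  exact (Submodule.Quotient.mk_eq_zero _).1 h1.symm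

theorem smul_of_bc_surj {φ : R →+* B} (hφ : Function.Surjective φ) {M N : Type*} [AddCommGroup M] [Module R M]
    [AddCommGroup N] [Module B N] {f : M →+ N} (h : IsBC φ f) {c : R} (hc : ∀ r ∈ RingHom.ker φ, c * r = 0) {n n' : M}
    (hn : f n = f n') : c • n = c • n' := by
  have h1 : n - n' ∈ RingHom.ker φ • (⊤ : Submodule R M) := mem_of_bc_surj hφ h (by rw [map_sub, hn, sub_self])
  rw [← sub_eq_zero, ← smul_sub]
  refine Submodule.smul_induction_on (p := fun x => c • x = 0) h1 (fun r hr x _ => ?_) fun x y hx hy => ?_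
  · rw [smul_smul, hc r hr, zero_smul]
  · rw [smul_add, hx, hy, add_zero]

theorem isBC_cut {φ : R →+* B} {M N : Type*} [AddCommGroup M] [Module R M]
    [AddCommGroup N] [Module B N] {f : M →+ N} (h : IsBC φ f) {ε : R} (hε : ε * ε = ε) {ε' : B} (hε' : φ ε = ε')
    (g : cut ε M →+ cut ε' N) (hg : ∀ m, (g m : N) = f m) : IsBC φ g := by
  subst hε'
  have hc : ∀ m : cut ε M, ε • (m : M) = m := fun m => mem_cut.1 m.2
  let s : M →ₗ[R] cut ε M := (LinearMap.lsmul R M ε).codRestrict (cut ε M) fun n => by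
    rw [mem_cut, LinearMap.lsmul_apply, smul_smul, hε]
  have hs : ∀ m : cut ε M, s m = m := fun m => Subtype.ext (hc m)
  let s' : N →ₗ[B] cut (φ ε) N := (LinearMap.lsmul B N (φ ε)).codRestrict (cut (φ ε) N) fun n => by
    rw [mem_cut, LinearMap.lsmul_apply, smul_smul, ← map_mul, hε]
  have hs' : ∀ n : cut (φ ε) N, s' n = n := fun n => Subtype.ext (mem_cut.1 n.2)
  have hsf : ∀ m, s' (f m) = g (s m) := fun m => Subtype.ext (by
    rw [hg]
    change φ ε • f m = f (ε • m)
    rw [h.map_smul])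
  refine IsBC.of_lift (fun a m => Subtype.ext ?_) fun Q _ _ k hk => ?_
  · rw [hg]
    change f (a • (m : M)) = φ a • (g m : N)
    rw [hg, h.map_smul]
  · obtain ⟨k', h1, h2⟩ := h.existsUnique_lift (k.comp s.toAddMonoidHom) (fun a m => by
      change k (s (a • m)) = φ a • k (s m)
      rw [map_smul, hk])
    have h1' : ∀ m, k' (f m) = k (s m) := h1
    refine ⟨k'.comp (cut (φ ε) N).subtype, fun m => ?_, fun k'' hk'' => ?_⟩
    · change k' (g m : N) = k m
      rw [hg, h1', hs]
    · have h3 : k''.comp s' = k' := h2 _ fun m => by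
        change k'' (s' (f m)) = k (s m)
        rw [hsf, hk'']
      ext n
      change k'' n = k' (n : N)
      rw [← h3]
      change k'' n = k'' (s' n)
      rw [hs']

end Alg

variable {𝒞 : Type u₁} [Category.{v₁} 𝒞] {A : 𝒞ᵒᵖ ⥤ CommRingCat.{u}} {x₀ y : 𝒞} {J : Type}

section Comb

variable (P : Pw x₀ y J) (W : PD A y) {t : 𝒞} (a : J → (t ⟶ x₀))

/-- the sections defined by a tuple of points -/
def gs' (ρ : Equiv.Perm J) : t ⟶ W.w t := W.lift (𝟙 t) (P.lift fun j => a (ρ j))

theorem gs'_π (ρ : Equiv.Perm J) : gs' P W a ρ ≫ W.π t = 𝟙 t := W.lift_π _ _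

theorem gs'_pt (ρ : Equiv.Perm J) (j : J) : gs' P W a ρ ≫ pt P W t j = a (ρ j) := by
  rw [pt, ← Category.assoc, gs', W.lift_b, P.lift_b]

theorem gs'_ac (ρ σ : Equiv.Perm J) : gs' P W a ρ ≫ ac P W σ t = gs' P W a (ρ * σ) := by
  refine w_ext P W ?_ fun j => ?_
  · rw [Category.assoc, ac_π, gs'_π, gs'_π]
  · rw [Category.assoc, ac_pt, gs'_pt, gs'_pt, Equiv.Perm.mul_apply]

variable [Fintype J] [DecidableEq J] (E : Diag A x₀)

/-- the idempotent of the locus `b = a ∘ ρ` -/
def cc (ρ : Equiv.Perm J) : A.obj (op (W.w t)) :=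
  rg A (W.π t) (E.dl a) * ∏ j, E.e (pt P W t j) (W.π t ≫ a (ρ j))

/-- the rest -/
def ce : A.obj (op (W.w t)) := rg A (W.π t) (E.dl a) * eps P W E t - ∑ ρ, cc P W a E ρ

theorem prod_e_idem {z : 𝒞} (f g : J → (z ⟶ x₀)) : (∏ j, E.e (f j) (g j)) * (∏ j, E.e (f j) (g j)) =
    ∏ j, E.e (f j) (g j) := by
  rw [← Finset.prod_mul_distrib]
  exact Finset.prod_congr rfl fun j _ => E.idem _ _

theorem cc_idem (ρ : Equiv.Perm J) : cc P W a E ρ * cc P W a E ρ = cc P W a E ρ := by
  have h1 : rg A (W.π t) (E.dl a) * rg A (W.π t) (E.dl a) = rg A (W.π t) (E.dl a) := by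
    rw [← map_mul, E.dl_idem]
  rw [cc, mul_mul_mul_comm, h1, prod_e_idem]

theorem u_idem : (rg A (W.π t) (E.dl a) * eps P W E t) * (rg A (W.π t) (E.dl a) * eps P W E t) =
    rg A (W.π t) (E.dl a) * eps P W E t := by
  rw [mul_mul_mul_comm, ← map_mul, E.dl_idem, eps_idem]

/-- values at points -/
theorem cc_point {ζ : 𝒞} [IsDomain (A.obj (op ζ))] (j : ζ ⟶ W.w t) (ρ : Equiv.Perm J) :
    rg A j (cc P W a E ρ) = 0 ∨ (rg A j (cc P W a E ρ) = 1 ∧
      Function.Injective (fun k => j ≫ W.π t ≫ a k) ∧ ∀ k, j ≫ pt P W t k = j ≫ W.π t ≫ a (ρ k)) := by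
  by_cases h1 : Function.Injective (fun k => j ≫ W.π t ≫ a k)
  · by_cases h2 : ∀ k, j ≫ pt P W t k = j ≫ W.π t ≫ a (ρ k)
    · refine Or.inr ⟨?_, h1, h2⟩
      rw [cc, map_mul, E.dl_map, E.dl_map, E.dl_inj h1, one_mul, map_prod]
      refine Finset.prod_eq_one fun k _ => ?_
      rw [E.map, h2, E.refl]
    · obtain ⟨k, hk⟩ := not_forall.1 h2
      refine Or.inl ?_
      rw [cc, map_mul, map_prod, Finset.prod_eq_zero (Finset.mem_univ k), mul_zero]
      rw [E.map, E.e_ne ζ hk]
  · refine Or.inl ?_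
    obtain ⟨k, l, h2, h3⟩ : ∃ k l, j ≫ W.π t ≫ a k = j ≫ W.π t ≫ a l ∧ k ≠ l := by
      simpa [Function.Injective] using h1
    rw [cc, map_mul, E.dl_map, E.dl_map, E.dl_not_inj h3 h2, zero_mul]

theorem cc_cc (hA : Good A) {ρ τ : Equiv.Perm J} (h : ρ ≠ τ) : cc P W a E ρ * cc P W a E τ = 0 := by
  refine hA.idem_ext ?_ (by rw [mul_zero]) fun ζ j hζ => ?_
  · rw [mul_mul_mul_comm, cc_idem, cc_idem]
  · rw [map_mul, map_zero]
    rcases cc_point P W a E j ρ with h1 | ⟨-, h1, h2⟩
    · rw [h1, zero_mul]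
    rcases cc_point P W a E j τ with h3 | ⟨-, -, h3⟩
    · rw [h3, mul_zero]
    exact absurd (Equiv.ext fun k => h1 ((h2 k).symm.trans (h3 k))) h

theorem u_cc (hA : Good A) (ρ : Equiv.Perm J) :
    rg A (W.π t) (E.dl a) * eps P W E t * cc P W a E ρ = cc P W a E ρ := by
  refine hA.idem_ext ?_ (cc_idem P W a E ρ) fun ζ j hζ => ?_
  · rw [mul_mul_mul_comm, u_idem, cc_idem]
  · rw [map_mul]
    rcases cc_point P W a E j ρ with h1 | ⟨h0, h1, h2⟩
    · rw [h1, mul_zero]
    have h3 : Function.Injective fun k => j ≫ pt P W t k := fun k l hkl => by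
      have h4 : j ≫ pt P W t k = j ≫ pt P W t l := hkl
      rw [h2, h2] at h4
      exact ρ.injective (h1 h4)
    rw [h0, mul_one, map_mul, E.dl_map, E.dl_map, E.dl_inj h1, eps, E.dl_map, E.dl_inj h3, one_mul]

theorem sum_cc (hA : Good A) (ρ : Equiv.Perm J) : (∑ τ, cc P W a E τ) * cc P W a E ρ = cc P W a E ρ := by
  rw [Finset.sum_mul, Finset.sum_eq_single ρ, cc_idem]
  · intro τ _ h
    exact cc_cc P W a E hA h
  · intro h
    exact absurd (Finset.mem_univ ρ) h

theorem ce_cc (hA : Good A) (ρ : Equiv.Perm J) : ce P W a E * cc P W a E ρ = 0 := by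
  rw [ce, sub_mul, u_cc P W a E hA, sum_cc P W a E hA, sub_self]

theorem ce_idem (hA : Good A) : ce P W a E * ce P W a E = ce P W a E := by
  have h1 : ce P W a E * ∑ τ, cc P W a E τ = 0 := by
    rw [Finset.mul_sum]
    exact Finset.sum_eq_zero fun τ _ => ce_cc P W a E hA τ
  have h2 : (rg A (W.π t) (E.dl a) * eps P W E t) * ∑ τ, cc P W a E τ = ∑ τ, cc P W a E τ := by
    rw [Finset.mul_sum]
    exact Finset.sum_congr rfl fun τ _ => u_cc P W a E hA τ
  have h3 := u_idem P W a E
  rw [ce] at h1 ⊢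
  rw [mul_sub, h1, sub_zero, sub_mul, h3]
  linear_combination -h2

theorem ce_sum : ce P W a E + ∑ ρ, cc P W a E ρ = rg A (W.π t) (E.dl a) * eps P W E t := by
  rw [ce, sub_add_cancel]

theorem cc_ac (σ ρ : Equiv.Perm J) : rg A (ac P W σ t) (cc P W a E ρ) = cc P W a E (ρ * σ⁻¹) := by
  rw [cc, cc, map_mul, map_prod, ← rg_comp_apply, ac_π]
  congr 1
  refine Fintype.prod_equiv σ _ _ fun j => ?_
  rw [E.map, ac_pt, ← Category.assoc, ac_π, Equiv.Perm.mul_apply, show σ⁻¹ (σ j) = j from σ.symm_apply_apply j]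

theorem ce_ac (σ : Equiv.Perm J) : rg A (ac P W σ t) (ce P W a E) = ce P W a E := by
  rw [ce, map_sub, map_mul, eps_ac, ← rg_comp_apply, ac_π, map_sum]
  congr 1
  refine Fintype.sum_equiv (Equiv.mulRight σ⁻¹) _ _ fun ρ => ?_
  rw [cc_ac]
  rfl

theorem gs'_cc (ρ : Equiv.Perm J) : rg A (gs' P W a ρ) (cc P W a E ρ) = E.dl a := by
  rw [cc, map_mul, ← rg_comp_apply, gs'_π, rg_id, map_prod, Finset.prod_eq_one, mul_one]
  · rfl
  · intro j _
    rw [E.map, gs'_pt, ← Category.assoc, gs'_π, Category.id_comp, E.refl]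

theorem gs'_ce (hA : Good A) (ρ : Equiv.Perm J) : rg A (gs' P W a ρ) (ce P W a E) = 0 := by
  have h1 : rg A (gs' P W a ρ) (rg A (W.π t) (E.dl a) * eps P W E t) = E.dl a := by
    rw [map_mul, ← rg_comp_apply, gs'_π, rg_id, eps, E.dl_map]
    have h2 : (fun j => gs' P W a ρ ≫ pt P W t j) = fun j => a (ρ j) := funext fun j => gs'_pt P W a ρ j
    rw [h2, E.dl_perm]
    exact E.dl_idem a
  have h2 : ∀ τ, τ ≠ ρ → rg A (gs' P W a ρ) (cc P W a E τ) = 0 := fun τ hτ => by
    have h3 := congrArg (rg A (gs' P W a ρ)) (cc_cc P W a E hA hτ)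
    rw [map_mul, map_zero, gs'_cc, cc, map_mul, ← rg_comp_apply, gs'_π, rg_id] at h3
    rw [cc, map_mul, ← rg_comp_apply, gs'_π, rg_id]
    change E.dl a * _ = 0
    change E.dl a * _ * E.dl a = 0 at h3
    rwa [mul_right_comm, E.dl_idem] at h3
  rw [ce, map_sub, h1, map_sum, Finset.sum_eq_single ρ, gs'_cc, sub_self]
  · intro τ _ h
    exact h2 τ h
  · intro h
    exact absurd (Finset.mem_univ ρ) h

/-- the components `b = a ∘ ρ` are isomorphic to the base -/
theorem cc_smul (hA : Good A) {M : PM.{w₁} A} (hM : M.Cart) (ρ : Equiv.Perm J) (n : M.obj (W.w t)) :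
    cc P W a E ρ • n = cc P W a E ρ • M.map (W.π t) (M.map (gs' P W a ρ) n) := by
  obtain ⟨ζ, j, hj, hk⟩ := hA.quot (W.w t) (Ideal.span {1 - cc P W a E ρ})
  have h1 : rg A j (cc P W a E ρ) = 1 := by
    have h2 : 1 - cc P W a E ρ ∈ RingHom.ker (rg A j) := hk ▸ Ideal.mem_span_singleton_self _
    rw [RingHom.mem_ker, map_sub, map_one, sub_eq_zero] at h2
    exact h2.symm
  have h3 : ∀ k, j ≫ pt P W t k = j ≫ W.π t ≫ a (ρ k) := fun k => by
    apply E.eq
    have h4 : cc P W a E ρ * E.e (pt P W t k) (W.π t ≫ a (ρ k)) = cc P W a E ρ := by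
      rw [cc, mul_assoc, ← Finset.mul_prod_erase _ _ (Finset.mem_univ k), mul_right_comm (E.e _ _), E.idem]
    have h5 := congrArg (rg A j) h4
    rw [map_mul, h1, one_mul, E.map] at h5
    exact h5
  have h6 : j = j ≫ W.π t ≫ gs' P W a ρ := by
    refine w_ext P W ?_ fun k => ?_
    · rw [Category.assoc, Category.assoc, gs'_π, Category.comp_id]
    · rw [h3, Category.assoc, Category.assoc, gs'_pt]
  refine smul_of_bc_surj hj (hM j) (fun r hr => ?_) ?_
  · rw [hk, Ideal.mem_span_singleton'] at hr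
    obtain ⟨s, rfl⟩ := hr
    linear_combination -s * cc_idem P W a E ρ
  · conv_lhs => rw [h6, M.map_comp, M.map_comp]

/-- the remaining part is covered by the loci `b_k ∉ a` -/
theorem ce_cover (hA : Good A) : ce P W a E * ∏ k : J, (1 - E.dl fun o : Option J =>
    o.elim (pt P W t k) fun j => W.π t ≫ a j) = 0 := by
  have hi : ∀ k : J, (1 - E.dl fun o : Option J => o.elim (pt P W t k) fun j => W.π t ≫ a j) *
      (1 - E.dl fun o : Option J => o.elim (pt P W t k) fun j => W.π t ≫ a j) =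
      (1 - E.dl fun o : Option J => o.elim (pt P W t k) fun j => W.π t ≫ a j) := fun k => by
    linear_combination E.dl_idem (fun o : Option J => o.elim (pt P W t k) fun j => W.π t ≫ a j)
  refine hA.idem_ext ?_ (by rw [mul_zero]) fun ζ j hζ => ?_
  · rw [mul_mul_mul_comm, ce_idem P W a E hA, ← Finset.prod_mul_distrib]
    congr 1
    exact Finset.prod_congr rfl fun k _ => hi k
  · rw [map_mul, map_zero]
    by_cases h1 : Function.Injective (fun k => j ≫ W.π t ≫ a k)
    swap
    · obtain ⟨k, l, h2, h3⟩ : ∃ k l, j ≫ W.π t ≫ a k = j ≫ W.π t ≫ a l ∧ k ≠ l := by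
        simpa [Function.Injective] using h1
      have h4 : rg A j (rg A (W.π t) (E.dl a)) = 0 := by
        rw [E.dl_map, E.dl_map, E.dl_not_inj h3 h2]
      rw [ce, map_sub, map_mul, h4, zero_mul, map_sum, Finset.sum_eq_zero, sub_zero, zero_mul]
      intro τ _
      rw [cc, map_mul, h4, zero_mul]
    by_cases h2 : ∀ k, ∃ l, j ≫ pt P W t k = j ≫ W.π t ≫ a l
    · choose ρ hρ using h2
      by_cases h3 : Function.Injective ρ
      · let ρ' : Equiv.Perm J := Equiv.ofBijective ρ (Finite.injective_iff_bijective.1 h3)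
        have h4 : rg A j (cc P W a E ρ') = 1 := by
          rw [cc, map_mul, E.dl_map, E.dl_map, E.dl_inj h1, one_mul, map_prod]
          refine Finset.prod_eq_one fun k _ => ?_
          rw [E.map]
          have h5 : j ≫ pt P W t k = j ≫ W.π t ≫ a (ρ' k) := hρ k
          rw [h5, E.refl]
        have h5 := congrArg (rg A j) (ce_cc P W a E hA ρ')
        rw [map_mul, h4, mul_one, map_zero] at h5
        rw [h5, zero_mul]
      · obtain ⟨k, l, h4, h5⟩ : ∃ k l, ρ k = ρ l ∧ k ≠ l := by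
          simpa [Function.Injective] using h3
        have h6 : rg A j (eps P W E t) = 0 := by
          rw [eps, E.dl_map]
          exact E.dl_not_inj h5 (by rw [hρ, hρ, h4])
        have h7 : ∀ τ, rg A j (cc P W a E τ) = 0 := fun τ => by
          rw [← u_cc P W a E hA τ, map_mul, map_mul, h6, mul_zero, zero_mul]
        rw [ce, map_sub, map_mul, h6, mul_zero, map_sum, Finset.sum_eq_zero fun τ _ => h7 τ, sub_zero, zero_mul]
    · obtain ⟨k, hk⟩ := not_forall.1 h2
      rw [map_prod, Finset.prod_eq_zero (Finset.mem_univ k), mul_zero]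
      rw [map_sub, map_one, E.dl_map, E.dl_inj, sub_self]
      rintro (_ | l) (_ | l') h3
      · rfl
      · exact absurd ⟨l', h3⟩ hk
      · exact absurd ⟨l, h3.symm⟩ hk
      · exact congrArg some (h1 h3)

end Comb

end K56.DM
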