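import Groth.Agent.ResProp.K741.PDPush

/-!
# Étale dévissage on a category with a presheaf of rings: definitions

`Good A` : closed immersions exist, arrows are cartesian.
`Diag A x₀` : the idempotents `e f g` of the equalizers of pairs of arrows to `x₀`.
`dl` : the idempotent of the locus where the points are pairwise distinct.
`cut r N` : the elements `n` with `r n = n`.
`fib` : pairs `(m, l)` with `ε p(m) = ∑ σ (ε lin(l))`.
-/

set_option autoImplicit false
set_option backward.isDefEq.respectTransparency false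
set_option backward.isDefEq.respectTransparency.types false

open CategoryTheory Opposite

namespace K56.DM

open K784.BC K784.PM K741.RP

universe v₁ u₁ u

section Cat

variable {𝒞 : Type u₁} [Category.{v₁} 𝒞]

/-- closed immersions exist; arrows with the same composite with `j` and the same ring homomorphism are equal -/
structure Good (A : 𝒞ᵒᵖ ⥤ CommRingCat.{u}) : Prop where
  quot : ∀ (y : 𝒞) (I : Ideal (A.obj (op y))), ∃ (y' : 𝒞) (j : y' ⟶ y), Function.Surjective (rg A j) ∧
    RingHom.ker (rg A j) = I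
  ext : ∀ {x y z : 𝒞} (j : y ⟶ z) (k k' : x ⟶ y), k ≫ j = k' ≫ j → rg A k = rg A k' → k = k'

/-- idempotents of the equalizers of arrows to `x₀` -/
structure Diag (A : 𝒞ᵒᵖ ⥤ CommRingCat.{u}) (x₀ : 𝒞) where
  e : ∀ {z : 𝒞}, (z ⟶ x₀) → (z ⟶ x₀) → A.obj (op z)
  idem : ∀ {z : 𝒞} (f g : z ⟶ x₀), e f g * e f g = e f g
  map : ∀ {y z : 𝒞} (φ : y ⟶ z) (f g : z ⟶ x₀), rg A φ (e f g) = e (φ ≫ f) (φ ≫ g)
  refl : ∀ {z : 𝒞} (f : z ⟶ x₀), e f f = 1
  eq : ∀ {z : 𝒞} {f g : z ⟶ x₀}, e f g = 1 → f = g

variable {A : 𝒞ᵒᵖ ⥤ CommRingCat.{u}} {x₀ : 𝒞}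

/-- the idempotent of the locus where the points are pairwise distinct -/
def Diag.dl (E : Diag A x₀) {z : 𝒞} {J : Type} [Fintype J] [DecidableEq J] (f : J → (z ⟶ x₀)) : A.obj (op z) :=
  ∏ p : J × J, if p.1 = p.2 then 1 else 1 - E.e (f p.1) (f p.2)

end Cat

section Alg

variable {R : Type*} [CommRing R]

/-- the part of a module on which `r` is the identity -/
def cut (r : R) (N : Type*) [AddCommGroup N] [Module R N] : Submodule R N where
  carrier := {n | r • n = n}
  add_mem' {a b} ha hb := by
    change r • (a + b) = a + b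
    rw [smul_add, show r • a = a from ha, show r • b = b from hb]
  zero_mem' := smul_zero r
  smul_mem' c x hx := by
    change r • c • x = c • x
    rw [smul_comm, show r • x = x from hx]

theorem mem_cut {r : R} {N : Type*} [AddCommGroup N] [Module R N] {n : N} : n ∈ cut r N ↔ r • n = n := Iff.rfl

end Alg

end K56.DM
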