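import Groth.Agent.ResProp.K56.FRel
import Groth.Agent.ResProp.K741.ResMain
import Groth.Agent.Htor.H254.FlatPushAff

/-!
# Flat quotients of quasi-coherent modules of finite flat dimension on a stack with an affine flat chart
-/

set_option autoImplicit false
set_option linter.style.haveILetI false
set_option backward.isDefEq.respectTransparency false
set_option backward.isDefEq.respectTransparency.types false

universe w'' v'' w' v' w v u

open CategoryTheory CategoryTheory.Limits AlgebraicGeometry Opposite StMod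
open K784.PM K784.Geo K741.RP

namespace K56.RP

variable {S : Scheme.{u}} {𝒳 : BasedCategory.{v, w} (Over S)}

/-- a module which is flat on the chart is flat at every object -/
theorem isFlat_of_x0 (h𝒳 : FibCat.IsFibGrpd 𝒳.p) {x₀ : (Aff 𝒳).obj} (D : K741.RP.PD (fa 𝒳) x₀) (E : QCoh 𝒳)
    (h : Module.Flat ((fa 𝒳).obj (op x₀)) ((gs E).obj x₀)) (ξ : 𝒳.obj) : FlatMod.IsFlat (E.obj.obj ξ) := by
  have h1 : ∀ z : (Aff 𝒳).obj, Module.Flat ((fa 𝒳).obj (op z)) ((gs E).obj z) := fun z => by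
    haveI := flat_of_bc (gs_cart E (D.b z))
    exact flat_of_ff (D.ff z) (gs_cart E (D.π z))
  intro x
  obtain ⟨V, hV, hxV, -⟩ := exists_isAffineOpen_mem_and_subset (X := sch 𝒳 ξ) (x := x) (U := ⊤) (Set.mem_univ x)
  obtain ⟨ζ, φ, ψ, h2, h3⟩ := exists_isBC_open h𝒳 E ξ hV
  haveI := h1 ζ
  exact Groth.Agent.Htor.H254.FlatPushAff.isFlatAt_of_flat_sections _ (E.property.2 ξ) hV
    (flat_of_ff (RingHom.FaithfullyFlat.of_bijective h2) h3) x hxV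

/-- from a flat-cartesian presheaf of modules to a quasi-coherent module -/
theorem exists_of_pm (h𝒳 : FibCat.IsFibGrpd 𝒳.p) {x₀ : (Aff 𝒳).obj} (H : HasProd x₀.obj) (M : QCoh 𝒳)
    (E₀ : PM.{u} (fa 𝒳)) (h1 : E₀.FlatCart) (q₀ : ∀ z, E₀.obj z →ₗ[(fa 𝒳).obj (op z)] (gs M).obj z)
    (h2 : ∀ ⦃x z : (Aff 𝒳).obj⦄ (φ : x ⟶ z) (e : E₀.obj z), q₀ x (E₀.map φ e) = (gs M).map φ (q₀ z e)) :
    ∃ (E : QCoh 𝒳) (q : E ⟶ M) (e : (gs E).obj x₀ ≃ₗ[(fa 𝒳).obj (op x₀)] E₀.obj x₀),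
      ∀ m, topLin q x₀ m = q₀ x₀ (e m) := by
  haveI := h𝒳
  obtain ⟨E, ev, h6, h7⟩ := exists_qcoh h𝒳 H.atlas E₀ (K784.Tr.FC.of_flatCart h1) (fun _ => trivial)
  have h8 : Function.Bijective (ev x₀ trivial) := h7 x₀ trivial PUnit.unit (𝟙 x₀) (Fl.id x₀)
  let t : K908.QHom.AHom (K908.QSec.rest E.obj (K908.AMod.ASieve.all 𝒳))
      (K908.QSec.rest M.obj (K908.AMod.ASieve.all 𝒳)) :=
    { app := fun z => (q₀ z).comp (ev z trivial)
      comm := fun {x z} φ m => (congrArg (q₀ x) (h6 φ trivial trivial m)).trans (h2 φ (ev z trivial m)) }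
  let q : E ⟶ M := ObjectProperty.homMk (K908.QHom.homMk K908.Fam.zloc_all t)
  have hq : ∀ (z : (Aff 𝒳).obj) (m : (gs E).obj z), topLin q z m = q₀ z (ev z trivial m) := fun z m =>
    K908.QHom.homMk_app K908.Fam.zloc_all t z m
  exact ⟨E, q, LinearEquiv.ofBijective (ev x₀ trivial) h8, fun m => hq x₀ m⟩

/-- one step -/
theorem exists_step (h𝒳 : FibCat.IsFibGrpd 𝒳.p) {x₀ : (Aff 𝒳).obj} (H : HasProd x₀.obj) (M : QCoh 𝒳) {n : ℕ}
    (h : DRing.HasTorDimLE ((fa 𝒳).obj (op x₀)) (n + 1) ((gs M).obj x₀)) :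
    ∃ (E : QCoh 𝒳) (q : E ⟶ M), DRing.HasTorDimLE ((fa 𝒳).obj (op x₀)) n ((gs E).obj x₀) ∧
      Function.Surjective (topLin q x₀) := by
  obtain ⟨D⟩ := nonempty_pd h𝒳 H
  let m : (gs M).obj x₀ → (gs M).obj x₀ := id
  have hm : Function.Surjective m := Function.surjective_id
  obtain ⟨E, q, e, he⟩ := exists_of_pm h𝒳 H M (PD.frelPM D (gs M) m) (PD.frelPM_flatCart D (gs_cart M) m)
    (PD.fq D (gs M) m) (fun _ _ φ v => PD.fq_map D (gs M) m φ v)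
  refine ⟨E, q, Groth.Agent.Flat2H.TorDim.HasTorDimLE.of_linearEquiv e.symm
    (hasTorDimLE_frelPM D (gs_cart M) hm h), fun y => ?_⟩
  obtain ⟨p, hp⟩ := PD.fq_surjective D (gs_cart M) hm x₀ y
  exact ⟨e.symm p, by rw [he, e.apply_symm_apply, hp]⟩

/-- **Main theorem**: a quasi-coherent module of finite flat dimension on the chart is a quotient of a flat one -/
theorem exists_flat (h𝒳 : FibCat.IsFibGrpd 𝒳.p) {x₀ : (Aff 𝒳).obj} (H : HasProd x₀.obj) (n : ℕ) :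
    ∀ (M : QCoh 𝒳), DRing.HasTorDimLE ((fa 𝒳).obj (op x₀)) n ((gs M).obj x₀) →
      ∃ (F : QCoh 𝒳) (q : F ⟶ M), (∀ ξ : 𝒳.obj, FlatMod.IsFlat (F.obj.obj ξ)) ∧ StMod.Mod.IsSurj q.hom := by
  obtain ⟨D⟩ := nonempty_pd h𝒳 H
  have key : ∀ (n : ℕ) (M : QCoh 𝒳), DRing.HasTorDimLE ((fa 𝒳).obj (op x₀)) n ((gs M).obj x₀) →
      ∃ (F : QCoh 𝒳) (q : F ⟶ M), Module.Flat ((fa 𝒳).obj (op x₀)) ((gs F).obj x₀) ∧
        Function.Surjective (topLin q x₀) := by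
    intro n
    induction n with
    | zero =>
      intro M h
      exact ⟨M, 𝟙 M, Groth.Agent.Flat2H.TorDim.hasTorDimLE_zero_iff.1 h, fun y => ⟨y, rfl⟩⟩
    | succ n ih =>
      intro M h
      obtain ⟨E, q, h1, h2⟩ := exists_step h𝒳 H M h
      obtain ⟨F, r, h3, h4⟩ := ih E h1
      refine ⟨F, r ≫ q, h3, fun y => ?_⟩
      obtain ⟨x, rfl⟩ := h2 y
      obtain ⟨z, rfl⟩ := h4 x
      exact ⟨z, rfl⟩
  intro M h
  obtain ⟨F, q, h1, h2⟩ := key n M h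
  exact ⟨F, q, isFlat_of_x0 h𝒳 D F h1, isSurj_of_x0 D q h2⟩

end K56.RP
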