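import Groth.Agent.ResProp.K56.DMStep
import Groth.Agent.ResProp.K56.FinFlat
import Groth.Agent.ResProp.K554.DiagBnd

/-!
# Étale dévissage: flat quotients of quasi-coherent modules on a stack with an étale affine chart
-/

set_option autoImplicit false
set_option linter.style.haveILetI false
set_option backward.isDefEq.respectTransparency false
set_option backward.isDefEq.respectTransparency.types false

universe w'' v'' w' v' w v u₁ v₁ w₁ u

open CategoryTheory CategoryTheory.Limits AlgebraicGeometry Opposite StMod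
open K784.PM K784.Geo K741.RP K56.RP K784.BC

namespace K56.DM

section FlatOn

variable {𝒞 : Type u₁} [Category.{v₁} 𝒞] {A : 𝒞ᵒᵖ ⥤ CommRingCat.{u}} {x₀ y : 𝒞} (E : Diag A x₀)

/-- flatness on the loci of pairwise distinct points -/
def FlatOn (M : PM.{w₁} A) (J : Type) [Fintype J] [DecidableEq J] : Prop :=
  ∀ (z : 𝒞) (f : J → (z ⟶ x₀)), Module.Flat (A.obj (op z)) (cut (E.dl f) (M.obj z))

variable {E} {M : PM.{w₁} A} {J J' : Type} [Fintype J] [DecidableEq J] [Fintype J'] [DecidableEq J']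

theorem dl_equiv (e : J ≃ J') {z : 𝒞} (f : J' → (z ⟶ x₀)) : E.dl (fun j => f (e j)) = E.dl f := by
  rw [Diag.dl, Diag.dl]
  refine Fintype.prod_equiv (Equiv.prodCongr e e) _ _ fun p => ?_
  simp only [Equiv.prodCongr_apply, Prod.map_fst, Prod.map_snd, EmbeddingLike.apply_eq_iff_eq]

theorem FlatOn.equiv (h : FlatOn E M J) (e : J ≃ J') : FlatOn E M J' := fun z f => by
  rw [← dl_equiv e f]
  exact h z _

theorem FlatOn.of_univ (P : Pw x₀ y J) (hM : M.Cart)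
    (h : Module.Flat (A.obj (op y)) (cut (E.dl P.b) (M.obj y))) : FlatOn E M J := fun z f => by
  have h1 : (fun j => P.lift f ≫ P.b j) = f := funext fun j => P.lift_b f j
  have h2 : rg A (P.lift f) (E.dl P.b) = E.dl f := by rw [E.dl_map, h1]
  have h3 : ∀ m ∈ cut (E.dl P.b) (M.obj y), M.map (P.lift f) m ∈ cut (E.dl f) (M.obj z) := fun m hm => by
    rw [mem_cut] at hm ⊢
    rw [← h2, ← M.map_smul, hm]
  let g : cut (E.dl P.b) (M.obj y) →+ cut (E.dl f) (M.obj z) :=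
    { toFun := fun m => ⟨M.map (P.lift f) m, h3 m m.2⟩
      map_zero' := Subtype.ext (map_zero _)
      map_add' := fun _ _ => Subtype.ext (map_add _ _ _) }
  exact flat_of_bc (isBC_cut (hM (P.lift f)) (E.dl_idem P.b) h2 g fun _ => rfl)

theorem flatOn_one (h : Module.Flat (A.obj (op x₀)) (M.obj x₀)) (hM : M.Cart) : FlatOn E M (Fin 1) := fun z f => by
  haveI := flat_of_bc (hM (f 0))
  exact flat_cut_of_flat _ (E.dl_idem f) _

theorem FlatOn.one (h : FlatOn E M (Fin 1)) : Module.Flat (A.obj (op x₀)) (M.obj x₀) := by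
  have h1 := h x₀ fun _ => 𝟙 _
  have h2 : E.dl (fun _ : Fin 1 => 𝟙 x₀) = 1 := by
    rw [Diag.dl]
    refine Finset.prod_eq_one fun p _ => ?_
    rw [if_pos (Subsingleton.elim _ _)]
  rw [h2] at h1
  exact Module.Flat.of_linearEquiv (LinearEquiv.ofTop (cut (1 : A.obj (op x₀)) (M.obj x₀)) (by
    rw [eq_top_iff]
    rintro x -
    rw [mem_cut, one_smul])).symm

end FlatOn

variable {S : Scheme.{u}} {𝒳 : BasedCategory.{v, w} (Over S)}

/-- from a flat-cartesian presheaf of modules to a quasi-coherent module -/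
theorem exists_of_pm' (h𝒳 : FibCat.IsFibGrpd 𝒳.p) {x₀ : (Aff 𝒳).obj} (H : HasProd x₀.obj) (M : QCoh 𝒳)
    (E₀ : PM.{u} (fa 𝒳)) (h1 : E₀.FlatCart) (q₀ : ∀ z, E₀.obj z →ₗ[(fa 𝒳).obj (op z)] (gs M).obj z)
    (h2 : ∀ ⦃x z : (Aff 𝒳).obj⦄ (φ : x ⟶ z) (e : E₀.obj z), q₀ x (E₀.map φ e) = (gs M).map φ (q₀ z e)) :
    ∃ (E : QCoh 𝒳) (q : E ⟶ M) (e : ∀ z, (gs E).obj z →ₗ[(fa 𝒳).obj (op z)] E₀.obj z),
      (∀ z (f : z ⟶ x₀), Fl (fa 𝒳) f → Function.Bijective (e z)) ∧ ∀ z m, topLin q z m = q₀ z (e z m) := by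
  haveI := h𝒳
  obtain ⟨E, ev, h6, h7⟩ := exists_qcoh h𝒳 H.atlas E₀ (K784.Tr.FC.of_flatCart h1) (fun _ => trivial)
  let t : K908.QHom.AHom (K908.QSec.rest E.obj (K908.AMod.ASieve.all 𝒳))
      (K908.QSec.rest M.obj (K908.AMod.ASieve.all 𝒳)) :=
    { app := fun z => (q₀ z).comp (ev z trivial)
      comm := fun {x z} φ m => (congrArg (q₀ x) (h6 φ trivial trivial m)).trans (h2 φ (ev z trivial m)) }
  let q : E ⟶ M := ObjectProperty.homMk (K908.QHom.homMk K908.Fam.zloc_all t)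
  have hq : ∀ (z : (Aff 𝒳).obj) (m : (gs E).obj z), topLin q z m = q₀ z (ev z trivial m) := fun z m =>
    K908.QHom.homMk_app K908.Fam.zloc_all t z m
  exact ⟨E, q, fun z => ev z trivial, fun z f hf => h7 z trivial PUnit.unit f hf, hq⟩

/-- linear equivalences and the parts cut out by idempotents -/
theorem flat_cut_equiv {R : Type*} [CommRing R] {N N' : Type*} [AddCommGroup N] [Module R N] [AddCommGroup N']
    [Module R N'] (e : N ≃ₗ[R] N') (r : R) (h : Module.Flat R (cut r N')) : Module.Flat R (cut r N) := by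
  refine Module.Flat.of_linearEquiv (e.submoduleMap (cut r N) ≪≫ₗ LinearEquiv.ofEq _ (cut r N') ?_)
  ext x
  constructor
  · rintro ⟨y, hy, rfl⟩
    change r • e y = e y
    rw [← map_smul, mem_cut.1 hy]
  · intro hx
    refine ⟨e.symm x, ?_, e.apply_symm_apply x⟩
    change r • e.symm x = e.symm x
    rw [← map_smul, mem_cut.1 hx]

/-- one step -/
theorem exists_step (h𝒳 : FibCat.IsFibGrpd 𝒳.p) (hA : Good (fa 𝒳)) {x₀ : (Aff 𝒳).obj} (H : HasProd x₀.obj)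
    (D : K741.RP.PD (fa 𝒳) x₀) (E : Diag (fa 𝒳) x₀) (M : QCoh 𝒳) (n : ℕ) (h : FlatOn E (gs M) (Fin (n + 2))) :
    ∃ (F : QCoh 𝒳) (q : F ⟶ M), FlatOn E (gs F) (Fin (n + 1)) ∧ Function.Surjective (topLin q x₀) := by
  obtain ⟨y, P, hP, ⟨W⟩⟩ := exists_pw D n
  let m : (gs M).obj y → (gs M).obj y := id
  have hm : Function.Surjective m := Function.surjective_id
  obtain ⟨F, q, e, h1, h2⟩ := exists_of_pm' h𝒳 H M (trelPM P W E (gs M) m) (trelPM_flatCart P W E (gs_cart M) m)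
    (tq P W E (gs M) m) (fun _ _ φ v => tq_map P W E (gs M) m φ v)
  refine ⟨F, q, FlatOn.of_univ P (gs_cart F) ?_, fun z => ?_⟩
  · have h3 : FlatOn E (gs M) (Option (Fin (n + 1))) := h.equiv (finSuccEquiv (n + 1))
    have h4 := flat_step P W E hA (gs_cart M) hm h3 P.b
    exact flat_cut_equiv (LinearEquiv.ofBijective (e y) (h1 y (P.b 0) hP.fl)) _ h4
  · obtain ⟨c, hc⟩ := exists_tr P W E hA x₀
    obtain ⟨p, hp⟩ := tq_surjective P W E (gs_cart M) hm x₀ c hc z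
    obtain ⟨p', rfl⟩ := (h1 x₀ (𝟙 x₀) (Fl.id x₀)).2 p
    exact ⟨p', (h2 x₀ p').trans hp⟩

/-- **Main theorem** -/
theorem exists_flat (h𝒳 : FibCat.IsFibGrpd 𝒳.p) (hA : Good (fa 𝒳)) {x₀ : (Aff 𝒳).obj} (H : HasProd x₀.obj)
    (hE : ∀ D : K741.RP.PD (fa 𝒳) x₀, (rg (fa 𝒳) (D.π x₀)).Etale) (M : QCoh 𝒳) :
    ∃ (F : QCoh 𝒳) (q : F ⟶ M), (∀ ξ : 𝒳.obj, FlatMod.IsFlat (F.obj.obj ξ)) ∧ StMod.Mod.IsSurj q.hom := by
  obtain ⟨D⟩ := nonempty_pd h𝒳 H
  obtain ⟨E⟩ := Groth.Agent.ResProp.K554.DiagBnd.exists_diag hA D (hE D)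
  obtain ⟨d, hd⟩ := Groth.Agent.ResProp.K554.DiagBnd.exists_bound hA D E (hE D)
  have key : ∀ (n : ℕ) (M : QCoh 𝒳), FlatOn E (gs M) (Fin (n + 1)) →
      ∃ (F : QCoh 𝒳) (q : F ⟶ M), Module.Flat ((fa 𝒳).obj (op x₀)) ((gs F).obj x₀) ∧
        Function.Surjective (topLin q x₀) := by
    intro n
    induction n with
    | zero =>
      intro M h
      exact ⟨M, 𝟙 M, h.one, fun y => ⟨y, rfl⟩⟩
    | succ n ih =>
      intro M h
      obtain ⟨E', q, h1, h2⟩ := exists_step h𝒳 hA H D E M n h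
      obtain ⟨F, r, h3, h4⟩ := ih E' h1
      refine ⟨F, r ≫ q, h3, fun y => ?_⟩
      obtain ⟨x, rfl⟩ := h2 y
      obtain ⟨z, rfl⟩ := h4 x
      exact ⟨z, rfl⟩
  obtain ⟨F, q, h1, h2⟩ := key d M fun z f => by
    rw [hd f]
    exact flat_cut_zero _
  exact ⟨F, q, isFlat_of_x0 h𝒳 D F h1, isSurj_of_x0 D q h2⟩

end K56.DM
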