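import Groth.Agent.ResProp.K56.DMTup

/-!
# The module `{(m, c) : ε π^* m = ∑_σ σ^* (ε lin c)}`
-/

set_option autoImplicit false
set_option backward.isDefEq.respectTransparency false
set_option backward.isDefEq.respectTransparency.types false
set_option linter.unusedSectionVars false

open CategoryTheory Opposite

namespace K56.DM

open K784.BC K784.PM K741.RP K56.RP

universe w₂ w₁ v₁ u₁ u

variable {𝒞 : Type u₁} [Category.{v₁} 𝒞] {A : 𝒞ᵒᵖ ⥤ CommRingCat.{u}} {x₀ y : 𝒞} {J : Type}

section Ac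

variable (P : Pw x₀ y J) (W : PD A y)

/-- the points of `z × x₀ ^ J` -/
def pt (z : 𝒞) (j : J) : W.w z ⟶ x₀ := W.b z ≫ P.b j

/-- permutation of the factors -/
def ac (σ : Equiv.Perm J) (z : 𝒞) : W.w z ⟶ W.w z := W.lift (W.π z) (P.lift fun j => pt P W z (σ j))

theorem ac_π (σ : Equiv.Perm J) (z : 𝒞) : ac P W σ z ≫ W.π z = W.π z := W.lift_π _ _

theorem ac_pt (σ : Equiv.Perm J) (z : 𝒞) (j : J) : ac P W σ z ≫ pt P W z j = pt P W z (σ j) := by
  rw [pt, ← Category.assoc, ac, W.lift_b, P.lift_b]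

theorem w_ext {t z : 𝒞} {k k' : t ⟶ W.w z} (h1 : k ≫ W.π z = k' ≫ W.π z)
    (h2 : ∀ j, k ≫ pt P W z j = k' ≫ pt P W z j) : k = k' := by
  refine W.ext h1 (P.ext fun j => ?_)
  rw [Category.assoc, Category.assoc]
  exact h2 j

theorem wm_pt {x z : 𝒞} (φ : x ⟶ z) (j : J) : W.wm φ ≫ pt P W z j = pt P W x j := by
  rw [pt, ← Category.assoc, W.wm_b, pt]

theorem ac_mul (σ τ : Equiv.Perm J) (z : 𝒞) : ac P W σ z ≫ ac P W τ z = ac P W (σ * τ) z := by
  refine w_ext P W ?_ fun j => ?_
  · rw [Category.assoc, ac_π, ac_π, ac_π]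
  · rw [Category.assoc, ac_pt, ac_pt, ac_pt, Equiv.Perm.mul_apply]

theorem ac_one (z : 𝒞) : ac P W 1 z = 𝟙 _ := by
  refine w_ext P W ?_ fun j => ?_
  · rw [ac_π, Category.id_comp]
  · rw [ac_pt, Category.id_comp, Equiv.Perm.one_apply]

theorem wm_ac (σ : Equiv.Perm J) {x z : 𝒞} (φ : x ⟶ z) : W.wm φ ≫ ac P W σ z = ac P W σ x ≫ W.wm φ := by
  refine w_ext P W ?_ fun j => ?_
  · rw [Category.assoc, ac_π, Category.assoc, W.wm_π, ← Category.assoc, ac_π]
  · rw [Category.assoc, ac_pt, Category.assoc, wm_pt, wm_pt, ac_pt]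

variable [Fintype J] [DecidableEq J] (E : Diag A x₀)

/-- the idempotent of the locus where the points are pairwise distinct -/
def eps (z : 𝒞) : A.obj (op (W.w z)) := E.dl (pt P W z)

theorem eps_idem (z : 𝒞) : eps P W E z * eps P W E z = eps P W E z := E.dl_idem _

theorem eps_map {x z : 𝒞} (φ : x ⟶ z) : rg A (W.wm φ) (eps P W E z) = eps P W E x := by
  rw [eps, E.dl_map, eps]
  congr 1
  funext j
  exact wm_pt P W φ j

theorem eps_ac (σ : Equiv.Perm J) (z : 𝒞) : rg A (ac P W σ z) (eps P W E z) = eps P W E z := by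
  have h1 := E.dl_perm (pt P W z) σ
  rw [eps, E.dl_map, ← h1]
  congr 1
  funext j
  exact ac_pt P W σ z j

end Ac

section Rel

variable [Fintype J] [DecidableEq J] (P : Pw x₀ y J) (W : PD A y) (E : Diag A x₀) {ι : Type w₂} (M : PM.{w₁} A)
  (m : ι → M.obj y)

/-- the trace -/
def trc (z : 𝒞) (n : M.obj (W.w z)) : M.obj (W.w z) := ∑ σ : Equiv.Perm J, M.map (ac P W σ z) n

theorem trc_add (z : 𝒞) (n n' : M.obj (W.w z)) : trc P W M z (n + n') = trc P W M z n + trc P W M z n' := by
  simp only [trc, map_add, Finset.sum_add_distrib]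

theorem trc_smul (z : 𝒞) (r : A.obj (op z)) (n : M.obj (W.w z)) :
    trc P W M z (rg A (W.π z) r • n) = rg A (W.π z) r • trc P W M z n := by
  simp only [trc, Finset.smul_sum]
  refine Finset.sum_congr rfl fun σ _ => ?_
  rw [M.map_smul, ← rg_comp_apply, ac_π]

theorem trc_map {x z : 𝒞} (φ : x ⟶ z) (n : M.obj (W.w z)) :
    trc P W M x (M.map (W.wm φ) n) = M.map (W.wm φ) (trc P W M z n) := by
  simp only [trc, map_sum]
  refine Finset.sum_congr rfl fun σ _ => ?_
  rw [← M.map_comp, ← M.map_comp, wm_ac]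

/-- the trace of functions -/
def trr (z : 𝒞) (b : A.obj (op (W.w z))) : A.obj (op (W.w z)) := ∑ σ : Equiv.Perm J, rg A (ac P W σ z) b

theorem trc_π (z : 𝒞) (b : A.obj (op (W.w z))) (n : M.obj z) :
    trc P W M z (b • M.map (W.π z) n) = trr P W z b • M.map (W.π z) n := by
  simp only [trc, trr, Finset.sum_smul]
  refine Finset.sum_congr rfl fun σ _ => ?_
  rw [M.map_smul, ← M.map_comp, ac_π]

/-- the relations: pairs `(n, c)` with `ε π^* n = ∑_σ σ^* (ε lin c)` -/
noncomputable def trel (z : 𝒞) :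
    (prod M (W.push (fpow (unit A) ι))).obj z →ₗ[A.obj (op z)] (W.push M).obj z where
  toFun x := eps P W E z • M.map (W.π z) x.1 - trc P W M z (eps P W E z • PD.lin W M m z x.2)
  map_add' x x' := by
    change eps P W E z • M.map (W.π z) (x.1 + x'.1) -
        trc P W M z (eps P W E z • PD.lin W M m z (x.2 + x'.2)) =
      (eps P W E z • M.map (W.π z) x.1 - trc P W M z (eps P W E z • PD.lin W M m z x.2)) +
        (eps P W E z • M.map (W.π z) x'.1 - trc P W M z (eps P W E z • PD.lin W M m z x'.2))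
    rw [map_add, map_add, smul_add, smul_add, trc_add]
    abel
  map_smul' r x := by
    change eps P W E z • M.map (W.π z) (r • x.1) -
        trc P W M z (eps P W E z • PD.lin W M m z (rg A (W.π z) r • (show ι →₀ A.obj (op (W.w z)) from x.2))) =
      rg A (W.π z) r • (eps P W E z • M.map (W.π z) x.1 - trc P W M z (eps P W E z • PD.lin W M m z x.2))
    rw [M.map_smul, map_smul, smul_sub, smul_comm (eps P W E z), smul_comm (eps P W E z), trc_smul]

theorem trel_apply (z : 𝒞) (x : M.obj z × (ι →₀ A.obj (op (W.w z)))) : trel P W E M m z x =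
    eps P W E z • M.map (W.π z) x.1 - trc P W M z (eps P W E z • PD.lin W M m z x.2) := rfl

theorem trel_map ⦃x z : 𝒞⦄ (φ : x ⟶ z) (v : (prod M (W.push (fpow (unit A) ι))).obj z) :
    trel P W E M m x ((prod M (W.push (fpow (unit A) ι))).map φ v) = (W.push M).map φ (trel P W E M m z v) := by
  change eps P W E x • M.map (W.π x) (M.map φ v.1) - trc P W M x (eps P W E x •
      PD.lin W M m x (Finsupp.mapRange.addMonoidHom (rg A (W.wm φ)).toAddMonoidHom v.2)) =
    M.map (W.wm φ) (eps P W E z • M.map (W.π z) v.1 - trc P W M z (eps P W E z • PD.lin W M m z v.2))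
  rw [map_sub, M.map_smul, eps_map, ← trc_map, M.map_smul, eps_map, ← M.map_comp, ← M.map_comp, W.wm_π,
    PD.lin_map]

/-- the module of relations -/
noncomputable def trelPM : PM.{max w₁ w₂ u} A :=
  sub (prod M (W.push (fpow (unit A) ι))) (fun z => LinearMap.ker (trel P W E M m z)) fun x z φ v hv => by
    rw [LinearMap.mem_ker] at hv ⊢
    rw [trel_map, hv, map_zero]

theorem trelPM_flatCart {M : PM.{w₁} A} (hM : M.Cart) (m : ι → M.obj y) : (trelPM P W E M m).FlatCart :=
  sub_flatCart (prod_cart hM (W.push_cart (fpow_cart (unit_cart A) ι))).flatCart _ _ (W.push_cart hM).flatCart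
    (trel P W E M m) (fun _ _ φ v => trel_map P W E M m φ v) fun _ _ => LinearMap.mem_ker

/-- the projection to `M` -/
noncomputable def tq (z : 𝒞) : (trelPM P W E M m).obj z →ₗ[A.obj (op z)] M.obj z :=
  (LinearMap.fst (A.obj (op z)) (M.obj z) ((W.push (fpow (unit A) ι)).obj z)).comp
    (LinearMap.ker (trel P W E M m z)).subtype

theorem tq_map ⦃x z : 𝒞⦄ (φ : x ⟶ z) (e : (trelPM P W E M m).obj z) :
    tq P W E M m x ((trelPM P W E M m).map φ e) = M.map φ (tq P W E M m z e) := rfl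

theorem tq_surjective {M : PM.{w₁} A} (hM : M.Cart) {m : ι → M.obj y} (hm : Function.Surjective m) (z : 𝒞)
    (e : A.obj (op (W.w z))) (he : eps P W E z * trr P W z e = eps P W E z) :
    Function.Surjective (tq P W E M m z) := by
  intro x
  obtain ⟨c, hc⟩ := PD.lin_surjective W hM hm z (e • M.map (W.π z) x)
  refine ⟨⟨(x, c), LinearMap.mem_ker.2 ?_⟩, rfl⟩
  rw [trel_apply, hc, sub_eq_zero, smul_smul, trc_π]
  have h1 : trr P W z (eps P W E z * e) = eps P W E z * trr P W z e := by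
    simp only [trr, Finset.mul_sum]
    refine Finset.sum_congr rfl fun σ _ => ?_
    rw [map_mul, eps_ac]
  rw [h1, he]

end Rel

end K56.DM
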