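import Groth.Agent.ResProp.K56.DMComb
import Groth.Agent.ResProp.K741.Core
import Groth.Agent.ResProp.K468.ChrE

/-!
# Étale dévissage: one step
-/

set_option autoImplicit false
set_option backward.isDefEq.respectTransparency false
set_option backward.isDefEq.respectTransparency.types false
set_option linter.unusedSectionVars false
set_option linter.style.haveILetI false

open CategoryTheory Opposite

namespace K56.DM

open K784.BC K784.PM K741.RP K56.RP

universe w₂ w₁ v₁ u₁ u

variable {𝒞 : Type u₁} [Category.{v₁} 𝒞] {A : 𝒞ᵒᵖ ⥤ CommRingCat.{u}} {x₀ y : 𝒞} {J : Type}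
  (P : Pw x₀ y J) (W : PD A y)

/-- permutations act on functions -/
abbrev actR (z : 𝒞) : MulSemiringAction (Equiv.Perm J) (A.obj (op (W.w z))) where
  smul σ b := rg A (ac P W σ z) b
  one_smul b := by
    change rg A (ac P W 1 z) b = b
    rw [ac_one, rg_id]
    rfl
  mul_smul σ τ b := by
    change rg A (ac P W (σ * τ) z) b = rg A (ac P W σ z) (rg A (ac P W τ z) b)
    rw [← ac_mul, rg_comp_apply]
  smul_zero σ := map_zero (rg A (ac P W σ z))
  smul_add σ := map_add (rg A (ac P W σ z))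
  smul_one σ := map_one (rg A (ac P W σ z))
  smul_mul σ := map_mul (rg A (ac P W σ z))

/-- permutations act on modules -/
abbrev actM (M : PM.{w₁} A) (z : 𝒞) : DistribMulAction (Equiv.Perm J) (M.obj (W.w z)) where
  smul σ b := M.map (ac P W σ z) b
  one_smul b := by
    change M.map (ac P W 1 z) b = b
    rw [ac_one, M.map_id]
  mul_smul σ τ b := by
    change M.map (ac P W (σ * τ) z) b = M.map (ac P W σ z) (M.map (ac P W τ z) b)
    rw [← ac_mul, M.map_comp]
  smul_zero σ := map_zero (M.map (ac P W σ z))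
  smul_add σ := map_add (M.map (ac P W σ z))

variable [Fintype J] [DecidableEq J] (E : Diag A x₀)

/-- elements of trace one -/
theorem exists_tr (hA : Good A) (z : 𝒞) : ∃ e : A.obj (op (W.w z)), eps P W E z * trr P W z e = eps P W E z := by
  letI := actR P W z
  refine K468.ChrE.exists_trace (G := Equiv.Perm J) (eps P W E z) (eps_idem P W E z) (fun σ => eps_ac P W E σ z)
    fun σ hσ => ?_
  obtain ⟨ζ, j, hj, hk⟩ := hA.quot (W.w z) (Ideal.span (Set.range fun b : A.obj (op (W.w z)) => σ • b - b))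
  have h1 : j ≫ ac P W σ z = j := by
    refine hA.ext (W.π z) _ _ (by rw [Category.assoc, ac_π]) ?_
    rw [rg_comp]
    refine RingHom.ext fun b => ?_
    have h2 : rg A (ac P W σ z) b - b ∈ RingHom.ker (rg A j) := by
      rw [hk]
      exact Ideal.subset_span ⟨b, rfl⟩
    rw [RingHom.mem_ker, map_sub, sub_eq_zero] at h2
    exact h2
  obtain ⟨k, hk'⟩ : ∃ k, σ k ≠ k := by
    by_contra h3
    exact hσ (Equiv.ext fun k => not_not.1 fun h4 => h3 ⟨k, h4⟩)
  rw [← hk, RingHom.mem_ker, eps, E.dl_map]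
  refine E.dl_not_inj hk' ?_
  rw [← ac_pt, ← Category.assoc, h1]

/-- **One step**: flatness on the locus of `J` pairwise distinct points -/
theorem flat_step (hA : Good A) {M : PM.{u} A} (hM : M.Cart) {ι : Type u} {m : ι → M.obj y}
    (hm : Function.Surjective m) (hfl : ∀ (z : 𝒞) (f : Option J → (z ⟶ x₀)),
      Module.Flat (A.obj (op z)) (cut (E.dl f) (M.obj z))) {t : 𝒞} (a : J → (t ⟶ x₀)) :
    Module.Flat (A.obj (op t)) (cut (E.dl a) ((trelPM P W E M m).obj t)) := by
  obtain ⟨e, he⟩ := exists_tr P W E hA t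
  letI := actR P W t
  letI := actM P W M t
  letI := (rg A (W.π t)).toAlgebra
  haveI : Module.Flat (A.obj (op t)) (A.obj (op (W.w t))) := (W.ff t).fl
  letI i1 : Module (A.obj (op t)) (M.obj (W.w t)) := Module.compHom (M.obj (W.w t)) (rg A (W.π t))
  haveI : IsScalarTower (A.obj (op t)) (A.obj (op (W.w t))) (M.obj (W.w t)) :=
    ⟨fun a b m => mul_smul (rg A (W.π t) a) b m⟩
  letI i2 : Module (A.obj (op t)) (ι →₀ A.obj (op (W.w t))) :=
    Module.compHom (ι →₀ A.obj (op (W.w t))) (rg A (W.π t))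
  haveI : IsScalarTower (A.obj (op t)) (A.obj (op (W.w t))) (ι →₀ A.obj (op (W.w t))) :=
    ⟨fun a b m => mul_smul (rg A (W.π t) a) b m⟩
  let p : M.obj t →ₗ[A.obj (op t)] M.obj (W.w t) :=
    { toFun := M.map (W.π t)
      map_add' := map_add _
      map_smul' := fun r y => M.map_smul _ r y }
  refine K741.Core.flat_core (R := A.obj (op t)) (B := A.obj (op (W.w t))) (Sg := Equiv.Perm J)
    (N := M.obj t) (N' := M.obj (W.w t)) (L := ι →₀ A.obj (op (W.w t)))
    (fun σ r => ?_) (fun σ b n => M.map_smul _ b n) p (fun σ n => ?_) (PD.lin W M m t)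
    (PD.lin_surjective W hM hm t) (eps P W E t) (eps_idem P W E t) (fun σ => eps_ac P W E σ t) e he (E.dl a)
    (E.dl_idem a) (fun ρ => rg A (gs' P W a ρ)) (fun ρ r => ?_) (fun ρ => M.map (gs' P W a ρ))
    (fun ρ b n => M.map_smul _ b n) (fun ρ n => ?_) (fun ρ σ n => ?_) (cc P W a E) (cc_idem P W a E)
    (fun ρ τ h => cc_cc P W a E hA h) (fun ρ n => cc_smul P W a E hA hM ρ n) (gs'_cc P W a E) (ce P W a E)
    (ce_idem P W a E hA) (ce_cc P W a E hA) (ce_sum P W a E) (fun σ => ce_ac P W a E σ) (gs'_ce P W a E hA)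
    ?_ (LinearMap.ker (trel P W E M m t)) (fun n l => ?_)
  · change rg A (ac P W σ t) (rg A (W.π t) r) = rg A (W.π t) r
    rw [← rg_comp_apply, ac_π]
  · change M.map (ac P W σ t) (M.map (W.π t) n) = M.map (W.π t) n
    rw [← M.map_comp, ac_π]
  · change rg A (gs' P W a ρ) (rg A (W.π t) r) = r
    rw [← rg_comp_apply, gs'_π, rg_id]
    rfl
  · change M.map (gs' P W a ρ) (M.map (W.π t) n) = n
    rw [← M.map_comp, gs'_π, M.map_id]
  · change M.map (gs' P W a ρ) (M.map (ac P W σ t) n) = M.map (gs' P W a (ρ * σ)) n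
    rw [← M.map_comp, gs'_ac]
  · exact flat_cut_of_cover (ce P W a E) (ce_idem P W a E hA) _ (fun k => E.dl_idem _) (ce_cover P W a E hA) _
      fun k => hfl _ _
  · rw [LinearMap.mem_ker]
    exact sub_eq_zero

end K56.DM
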