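import Groth.Agent.ResProp.K56.FPow

/-!
# The module `M ×_{u_* u^* M} u_* G`, `G` free of arbitrary rank
-/

set_option autoImplicit false
set_option backward.isDefEq.respectTransparency false
set_option backward.isDefEq.respectTransparency.types false
set_option linter.style.haveILetI false
set_option linter.dupNamespace false
set_option linter.unusedSectionVars false

open CategoryTheory Opposite

namespace K56.RP

open K784.BC K784.PM K741.RP

universe w₂ w₁ v₁ u₁ u

section Alg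

variable {R R' : Type u} [CommRing R] [CommRing R']

theorem tor_of_bc {n : ℕ} {φ : R →+* R'} (hφ : φ.Flat) {M N : Type u} [AddCommGroup M] [Module R M] [AddCommGroup N]
    [Module R' N] {f : M →+ N} (h : IsBC φ f) (hM : DRing.HasTorDimLE R n M) : DRing.HasTorDimLE R' n N := by
  obtain ⟨h1, h2⟩ := h
  letI := φ.toAlgebra
  haveI : Module.Flat R R' := hφ
  letI : Module R N := Module.compHom N φ
  haveI : IsScalarTower R R' N := ⟨fun a b m => mul_smul (φ a) b m⟩
  exact Groth.Agent.Flat2H.TorDim.HasTorDimLE.of_linearEquiv h2.equiv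
    (Groth.Agent.Flat2H.TorDim.HasTorDimLE.baseChange R' hM)

theorem tor_restrict {n : ℕ} {φ : R →+* R'} (hφ : φ.Flat) (N : Type u) [AddCommGroup N] [Module R' N]
    (h : DRing.HasTorDimLE R' n N) : @DRing.HasTorDimLE R _ n N _ (Module.compHom N φ) := by
  letI := φ.toAlgebra
  haveI : Module.Flat R R' := hφ
  letI : Module R N := Module.compHom N φ
  haveI : IsScalarTower R R' N := ⟨fun a b m => mul_smul (φ a) b m⟩
  exact hasTorDimLE_restrict n N h

end Alg

section PMs

variable {𝒞 : Type u₁} [Category.{v₁} 𝒞] {A : 𝒞ᵒᵖ ⥤ CommRingCat.{u}}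

/-- direct sums of copies of a module -/
noncomputable def fpow (K : PM.{w₁} A) (ι : Type w₂) : PM.{max w₂ w₁} A where
  obj z := ι →₀ K.obj z
  grp _ := inferInstance
  mod _ := inferInstance
  map φ := Finsupp.mapRange.addMonoidHom (K.map φ)
  map_smul φ r m := by
    ext i
    simp only [Finsupp.mapRange.addMonoidHom_apply, Finsupp.mapRange_apply, Finsupp.smul_apply, K.map_smul]
  map_id z m := by
    ext i
    simp only [Finsupp.mapRange.addMonoidHom_apply, Finsupp.mapRange_apply, K.map_id]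
  map_comp ψ φ m := by
    ext i
    simp only [Finsupp.mapRange.addMonoidHom_apply, Finsupp.mapRange_apply, K.map_comp]

theorem fpow_cart {K : PM.{w₁} A} (h : K.Cart) (ι : Type w₂) : (fpow K ι).Cart := fun _ _ φ => isBC_finsupp (h φ) ι

namespace PD

variable {x₀ : 𝒞} (D : PD A x₀) {ι : Type w₂}

/-- linear combinations of the restrictions -/
noncomputable def lin (M : PM.{w₁} A) (m : ι → M.obj x₀) (z : 𝒞) :
    (ι →₀ A.obj (op (D.w z))) →ₗ[A.obj (op (D.w z))] M.obj (D.w z) :=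
  Finsupp.linearCombination (A.obj (op (D.w z))) (fun i => M.map (D.b z) (m i))

theorem lin_map (M : PM.{w₁} A) (m : ι → M.obj x₀) {x z : 𝒞} (φ : x ⟶ z) (c : ι →₀ A.obj (op (D.w z))) :
    lin D M m x (Finsupp.mapRange.addMonoidHom (rg A (D.wm φ)).toAddMonoidHom c) =
      M.map (D.wm φ) (lin D M m z c) := by
  induction c using Finsupp.induction_linear with
  | zero => simp
  | add a b ha hb => rw [map_add, map_add, ha, hb, map_add, map_add]
  | single i r =>
    rw [Finsupp.mapRange.addMonoidHom_apply, Finsupp.mapRange_single, lin, lin, Finsupp.linearCombination_single,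
      Finsupp.linearCombination_single, M.map_smul, ← M.map_comp, D.wm_b]
    rfl

/-- the relations: pairs `(x, c)` with `π^* x = ∑ c_i b^* m_i` -/
noncomputable def frel (M : PM.{w₁} A) (m : ι → M.obj x₀) (z : 𝒞) :
    (prod M (D.push (fpow (unit A) ι))).obj z →ₗ[A.obj (op z)] (D.push M).obj z where
  toFun x := M.map (D.π z) x.1 - lin D M m z x.2
  map_add' x y := by
    change M.map (D.π z) (x.1 + y.1) - lin D M m z (x.2 + y.2) = (M.map (D.π z) x.1 - lin D M m z x.2) +
        (M.map (D.π z) y.1 - lin D M m z y.2)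
    rw [map_add, map_add]
    abel
  map_smul' r x := (congrArg₂ (· - ·) (M.map_smul (D.π z) r x.1)
    ((lin D M m z).map_smul (rg A (D.π z) r) x.2)).trans
      (smul_sub (rg A (D.π z) r) (M.map (D.π z) x.1) (lin D M m z x.2)).symm

theorem frel_map (M : PM.{w₁} A) (m : ι → M.obj x₀) ⦃x z : 𝒞⦄ (φ : x ⟶ z)
    (v : (prod M (D.push (fpow (unit A) ι))).obj z) :
    frel D M m x ((prod M (D.push (fpow (unit A) ι))).map φ v) = (D.push M).map φ (frel D M m z v) := by
  change M.map (D.π x) (M.map φ v.1) -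
      lin D M m x (Finsupp.mapRange.addMonoidHom (rg A (D.wm φ)).toAddMonoidHom v.2) =
    M.map (D.wm φ) (M.map (D.π z) v.1 - lin D M m z v.2)
  rw [map_sub, ← M.map_comp, ← M.map_comp, D.wm_π, lin_map]

/-- the module `M ×_{u_* u^* M} u_* G` -/
noncomputable def frelPM (M : PM.{w₁} A) (m : ι → M.obj x₀) : PM.{max w₁ w₂ u} A :=
  sub (prod M (D.push (fpow (unit A) ι))) (fun z => LinearMap.ker (frel D M m z)) fun x z φ v hv => by
    rw [LinearMap.mem_ker] at hv ⊢
    rw [frel_map, hv, map_zero]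

theorem frelPM_flatCart {M : PM.{w₁} A} (hM : M.Cart) (m : ι → M.obj x₀) : (frelPM D M m).FlatCart :=
  sub_flatCart (prod_cart hM (D.push_cart (fpow_cart (unit_cart A) ι))).flatCart _ _ (D.push_cart hM).flatCart
    (frel D M m) (fun _ _ φ v => frel_map D M m φ v) fun _ _ => LinearMap.mem_ker

/-- the projection to `M` -/
noncomputable def fq (M : PM.{w₁} A) (m : ι → M.obj x₀) (z : 𝒞) : (frelPM D M m).obj z →ₗ[A.obj (op z)] M.obj z :=
  (LinearMap.fst (A.obj (op z)) (M.obj z) ((D.push (fpow (unit A) ι)).obj z)).comp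
    (LinearMap.ker (frel D M m z)).subtype

theorem fq_map (M : PM.{w₁} A) (m : ι → M.obj x₀) ⦃x z : 𝒞⦄ (φ : x ⟶ z) (e : (frelPM D M m).obj z) :
    fq D M m x ((frelPM D M m).map φ e) = M.map φ (fq D M m z e) := rfl

theorem lin_surjective {M : PM.{w₁} A} (hM : M.Cart) {m : ι → M.obj x₀} (hm : Function.Surjective m) (z : 𝒞) :
    Function.Surjective (lin D M m z) := by
  rw [← LinearMap.range_eq_top, eq_top_iff, ← (hM (D.b z)).span_range, Submodule.span_le]
  rintro _ ⟨x, rfl⟩
  obtain ⟨i, rfl⟩ := hm x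
  refine ⟨Finsupp.single i 1, ?_⟩
  rw [lin, Finsupp.linearCombination_single, one_smul]

theorem fq_surjective {M : PM.{w₁} A} (hM : M.Cart) {m : ι → M.obj x₀} (hm : Function.Surjective m) (z : 𝒞) :
    Function.Surjective (fq D M m z) := by
  intro x
  obtain ⟨c, hc⟩ := lin_surjective D hM hm z (M.map (D.π z) x)
  exact ⟨⟨(x, c), LinearMap.mem_ker.2 (by
    change M.map (D.π z) x - lin D M m z c = 0
    rw [hc, sub_self])⟩, rfl⟩

end PD

end PMs

section Tor

variable {𝒞 : Type u₁} [Category.{v₁} 𝒞] {A : 𝒞ᵒᵖ ⥤ CommRingCat.{u}} {x₀ : 𝒞} (D : PD A x₀)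

/-- **the tor dimension goes down** -/
theorem hasTorDimLE_frelPM {n : ℕ} {M : PM.{u} A} (hM : M.Cart) {ι : Type u} {m : ι → M.obj x₀}
    (hm : Function.Surjective m) (h : DRing.HasTorDimLE (A.obj (op x₀)) (n + 1) (M.obj x₀)) :
    DRing.HasTorDimLE (A.obj (op x₀)) n ((PD.frelPM D M m).obj x₀) := by
  have h1 : DRing.HasTorDimLE (A.obj (op (D.w x₀))) (n + 1) (M.obj (D.w x₀)) :=
    tor_of_bc D.ff_b.fl (hM (D.b x₀)) h
  have h2 : DRing.HasTorDimLE (A.obj (op x₀)) (n + 1) ((D.push M).obj x₀) :=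
    tor_restrict (D.ff x₀).fl (M.obj (D.w x₀)) h1
  have h3 : Module.Flat (A.obj (op x₀)) ((D.push (fpow (unit A) ι)).obj x₀) := by
    letI := (rg A (D.π x₀)).toAlgebra
    haveI : Module.Flat (A.obj (op x₀)) (A.obj (op (D.w x₀))) := (D.ff x₀).fl
    letI i1 : Module (A.obj (op x₀)) (ι →₀ A.obj (op (D.w x₀))) :=
      Module.compHom (ι →₀ A.obj (op (D.w x₀))) (rg A (D.π x₀))
    haveI : IsScalarTower (A.obj (op x₀)) (A.obj (op (D.w x₀))) (ι →₀ A.obj (op (D.w x₀))) :=
      ⟨fun a b m => mul_smul (rg A (D.π x₀) a) b m⟩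
    exact Module.Flat.trans (A.obj (op x₀)) (A.obj (op (D.w x₀))) (ι →₀ A.obj (op (D.w x₀)))
  let ρ : M.obj x₀ →ₗ[A.obj (op x₀)] (D.push M).obj x₀ :=
    { toFun := M.map (D.π x₀)
      map_add' := map_add _
      map_smul' := fun r y => M.map_smul _ r y }
  let δ : (D.push M).obj x₀ →ₗ[A.obj (op x₀)] M.obj x₀ :=
    { toFun := M.map (D.lift (𝟙 x₀) (𝟙 x₀))
      map_add' := map_add _
      map_smul' := fun r y => (M.map_smul (D.lift (𝟙 x₀) (𝟙 x₀)) (rg A (D.π x₀) r) y).trans (by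
        rw [← rg_comp_apply, D.lift_π, rg_id]) }
  have hδ : ∀ y, δ (ρ y) = y := fun y => by
    change M.map (D.lift (𝟙 x₀) (𝟙 x₀)) (M.map (D.π x₀) y) = y
    rw [← M.map_comp, D.lift_π, M.map_id]
  let a : (D.push (fpow (unit A) ι)).obj x₀ →ₗ[A.obj (op x₀)] (D.push M).obj x₀ :=
    { toFun := fun c => PD.lin D M m x₀ c
      map_add' := fun c d => map_add (PD.lin D M m x₀) c d
      map_smul' := fun r c => (PD.lin D M m x₀).map_smul (rg A (D.π x₀) r) c }
  let q : (PD.frelPM D M m).obj x₀ →ₗ[A.obj (op x₀)] (D.push (fpow (unit A) ι)).obj x₀ :=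
    (LinearMap.snd (A.obj (op x₀)) (M.obj x₀) ((D.push (fpow (unit A) ι)).obj x₀)).comp
      (LinearMap.ker (PD.frel D M m x₀)).subtype
  refine hasTorDimLE_fibre ρ δ hδ a (PD.lin_surjective D hM hm x₀) h2 (PD.fq D M m x₀) q ?_ ?_ ?_
  · intro x h4 h5
    apply Subtype.ext
    exact Prod.ext h4 h5
  · intro x
    have h4 : M.map (D.π x₀) x.1.1 - PD.lin D M m x₀ x.1.2 = 0 := LinearMap.mem_ker.1 x.2
    exact sub_eq_zero.1 h4
  · intro y g h4
    exact ⟨⟨(y, g), LinearMap.mem_ker.2 (sub_eq_zero.2 h4)⟩, rfl, rfl⟩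

end Tor

end K56.RP
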