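import Groth.Agent.ResProp.K56.DMDefs
import Groth.Agent.ResProp.K56.FRel

/-!
# Étale dévissage: points, idempotents and powers
-/

set_option autoImplicit false
set_option backward.isDefEq.respectTransparency false
set_option backward.isDefEq.respectTransparency.types false
set_option linter.unusedSectionVars false

open CategoryTheory Opposite

namespace K56.DM

open K784.BC K784.PM K741.RP

universe w₂ w₁ v₁ u₁ u

section Idem

variable {R : Type*} [CommRing R]

theorem eq_of_idem {a b : R} (ha : a * a = a) (hb : b * b = b) (h : ∀ p : Ideal R, p.IsPrime → a - b ∈ p) : a = b := by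
  have h1 : a - b ∈ nilradical R := by
    rw [nilradical_eq_sInf, Ideal.mem_sInf]
    intro p hp
    exact h p hp
  obtain ⟨n, hn⟩ := mem_nilradical.1 h1
  have h2 : ∀ k : ℕ, (a - b) ^ (2 * k + 1) = a - b := by
    intro k
    induction k with
    | zero => ring
    | succ k ih =>
      have h3 : (a - b) ^ 3 = a - b := by
        have : (a - b) ^ 3 = a * a * a - 3 * (a * a) * b + 3 * a * (b * b) - b * b * b := by ring
        rw [this, ha, hb, ha, hb]
        ring
      calc (a - b) ^ (2 * (k + 1) + 1) = (a - b) ^ (2 * k + 1) * (a - b) ^ 2 := by ring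
        _ = (a - b) ^ 3 := by rw [ih]; ring
        _ = a - b := h3
  have h4 : (a - b) ^ (2 * n + 1) = 0 := by
    rw [pow_succ, mul_comm 2 n, pow_mul, hn]
    ring
  rw [h2] at h4
  exact sub_eq_zero.1 h4

end Idem

section Cat

variable {𝒞 : Type u₁} [Category.{v₁} 𝒞] {A : 𝒞ᵒᵖ ⥤ CommRingCat.{u}} {x₀ : 𝒞}

/-- idempotents are determined by their values at points -/
theorem Good.idem_ext (hA : Good A) {z : 𝒞} {a b : A.obj (op z)} (ha : a * a = a) (hb : b * b = b)
    (h : ∀ (ζ : 𝒞) (j : ζ ⟶ z), IsDomain (A.obj (op ζ)) → rg A j a = rg A j b) : a = b := by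
  refine eq_of_idem ha hb fun p hp => ?_
  obtain ⟨ζ, j, hj, hk⟩ := hA.quot z p
  have h1 : IsDomain (A.obj (op ζ)) := by
    have : (RingHom.ker (rg A j)).IsPrime := hk ▸ hp
    exact (RingHom.quotientKerEquivOfSurjective hj).symm.toMulEquiv.isDomain _
  rw [← hk, RingHom.mem_ker, map_sub, h ζ j h1, sub_self]

namespace Diag

variable (E : Diag A x₀)

theorem e_ne (ζ : 𝒞) [IsDomain (A.obj (op ζ))] {f g : ζ ⟶ x₀} (h : f ≠ g) : E.e f g = 0 := by
  rcases IsIdempotentElem.iff_eq_zero_or_one.1 (E.idem f g) with h1 | h1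
  · exact h1
  · exact absurd (E.eq h1) h

variable {J : Type} [Fintype J] [DecidableEq J]

theorem dl_map {y z : 𝒞} (φ : y ⟶ z) (f : J → (z ⟶ x₀)) : rg A φ (E.dl f) = E.dl fun j => φ ≫ f j := by
  rw [dl, dl, map_prod]
  refine Finset.prod_congr rfl fun p _ => ?_
  split_ifs with h
  · rw [map_one]
  · rw [map_sub, map_one, E.map]

theorem dl_idem {z : 𝒞} (f : J → (z ⟶ x₀)) : E.dl f * E.dl f = E.dl f := by
  rw [dl, ← Finset.prod_mul_distrib]
  refine Finset.prod_congr rfl fun p _ => ?_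
  split_ifs with h
  · rw [mul_one]
  · linear_combination E.idem (f p.1) (f p.2)

theorem dl_inj {ζ : 𝒞} [IsDomain (A.obj (op ζ))] {f : J → (ζ ⟶ x₀)} (h : Function.Injective f) : E.dl f = 1 := by
  rw [dl]
  refine Finset.prod_eq_one fun p _ => ?_
  split_ifs with h1
  · rfl
  · rw [E.e_ne ζ fun h2 => h1 (h h2), sub_zero]

theorem dl_not_inj {z : 𝒞} {f : J → (z ⟶ x₀)} {j k : J} (hjk : j ≠ k) (h : f j = f k) : E.dl f = 0 := by
  rw [dl]
  refine Finset.prod_eq_zero (i := (j, k)) (Finset.mem_univ _) ?_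
  rw [if_neg hjk]
  change 1 - E.e (f j) (f k) = 0
  rw [h, E.refl, sub_self]

theorem dl_perm {z : 𝒞} (f : J → (z ⟶ x₀)) (σ : Equiv.Perm J) : E.dl (fun j => f (σ j)) = E.dl f := by
  rw [dl, dl]
  refine Fintype.prod_equiv (Equiv.prodCongr σ σ) _ _ fun p => ?_
  simp only [Equiv.prodCongr_apply, Prod.map_fst, Prod.map_snd, EmbeddingLike.apply_eq_iff_eq]

end Diag

/-- `y` is the power `x₀ ^ J` -/
structure Pw (x₀ y : 𝒞) (J : Type) where
  b : J → (y ⟶ x₀)
  lift : ∀ {z : 𝒞} (_ : J → (z ⟶ x₀)), z ⟶ y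
  lift_b : ∀ {z : 𝒞} (f : J → (z ⟶ x₀)) (j : J), lift f ≫ b j = f j
  ext : ∀ {z : 𝒞} {k k' : z ⟶ y}, (∀ j, k ≫ b j = k' ≫ b j) → k = k'

theorem wm_π' {y : 𝒞} (W : PD A y) {x z t : 𝒞} (φ : x ⟶ z) (k : z ⟶ t) :
    W.wm φ ≫ W.π z ≫ k = W.π x ≫ φ ≫ k := by
  rw [← Category.assoc, W.wm_π, Category.assoc]

/-- products with a product -/
def PD.comp {y : 𝒞} (W : PD A y) (D : PD A x₀) : PD A (D.w y) where
  w z := D.w (W.w z)
  π z := D.π (W.w z) ≫ W.π z
  b z := D.wm (W.b z)
  lift f g := D.lift (W.lift f (g ≫ D.π y)) (g ≫ D.b y)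
  lift_π f g := by rw [← Category.assoc, D.lift_π, W.lift_π]
  lift_b f g := D.ext (by rw [Category.assoc, D.wm_π, ← Category.assoc, D.lift_π, W.lift_b])
    (by rw [Category.assoc, D.wm_b, D.lift_b])
  ext {y' z l l'} h1 h2 := by
    have h3 : l ≫ D.b (W.w z) = l' ≫ D.b (W.w z) := by
      rw [← D.wm_b (W.b z), ← Category.assoc, ← Category.assoc, h2]
    refine D.ext (W.ext (by rw [Category.assoc, h1, Category.assoc]) ?_) h3
    rw [Category.assoc, Category.assoc, ← D.wm_π, ← Category.assoc, ← Category.assoc, h2]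
  ff z := (D.ff (W.w z)).comp (W.ff z)
  po {x z} φ ψ h1 h2 := by
    have e1 : ψ = D.wm (W.wm φ) := by
      refine D.ext (W.ext ?_ ?_) ?_
      · rw [Category.assoc, h1, Category.assoc, Category.assoc, wm_π', W.wm_π]
      · rw [Category.assoc, ← D.wm_π, ← Category.assoc, h2, D.wm_π, D.wm_π, Category.assoc, W.wm_b]
      · rw [D.wm_b, ← D.wm_b (W.b z), ← Category.assoc, h2, D.wm_b]
    subst e1
    have h3 := W.po' φ
    have h4 := D.po' (W.wm φ)
    have h5 := IsPushout.paste_vert h3 h4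
    unfold IsPO
    rw [rg_comp, rg_comp, CommRingCat.ofHom_comp, CommRingCat.ofHom_comp]
    exact h5

theorem exists_pw (D : PD A x₀) (n : ℕ) :
    ∃ (y : 𝒞) (P : Pw x₀ y (Fin (n + 1))), FF A (P.b 0) ∧ Nonempty (PD A y) := by
  induction n with
  | zero =>
    refine ⟨x₀, { b := fun _ => 𝟙 _
                  lift := fun f => f 0
                  lift_b := fun f j => by
                     have h : j = 0 := Subsingleton.elim (α := Fin 1) j 0
                     rw [Category.comp_id, h]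
                  ext := fun {z k k'} h => by simpa using h 0 }, FF.id x₀, ⟨D⟩⟩
  | succ n ih =>
    obtain ⟨y, P, hP, ⟨W⟩⟩ := ih
    refine ⟨D.w y, { b := Fin.snoc (α := fun _ => D.w y ⟶ x₀) (fun j => D.π y ≫ P.b j) (D.b y)
                     lift := fun f => D.lift (P.lift fun j => f j.castSucc) (f (Fin.last _))
                     lift_b := fun f j => ?_
                     ext := fun {z k k'} h => ?_ }, ?_, ⟨PD.comp W D⟩⟩
    · induction j using Fin.lastCases with
      | last => rw [Fin.snoc_last, D.lift_b]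
      | cast j => rw [Fin.snoc_castSucc, ← Category.assoc, D.lift_π, P.lift_b]
    · refine D.ext (P.ext fun j => ?_) ?_
      · have h1 := h j.castSucc
        rw [Fin.snoc_castSucc] at h1
        rw [Category.assoc, Category.assoc, h1]
      · have h1 := h (Fin.last _)
        rwa [Fin.snoc_last] at h1
    · change FF A (Fin.snoc (α := fun _ => D.w y ⟶ x₀) (fun j => D.π y ≫ P.b j) (D.b y) (Fin.castSucc 0))
      rw [Fin.snoc_castSucc]
      exact (D.ff y).comp hP

end Cat

end K56.DM
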