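import Groth.Agent.ResProp.K741.PDPush
import Groth.Agent.Flat2H.TorDim

/-!
# Push-forward of free modules of arbitrary rank, and the tor dimension of `M ×_{u_* u^* M} u_* G`
-/

set_option autoImplicit false
set_option backward.isDefEq.respectTransparency false
set_option backward.isDefEq.respectTransparency.types false
set_option linter.style.haveILetI false
set_option linter.dupNamespace false
set_option linter.unusedSectionVars false

open CategoryTheory Opposite

namespace K56.RP

open K784.BC K784.PM K741.RP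

universe w₂ w₁ v₁ u₁ u

section BC

variable {A B : Type*} [CommRing A] [CommRing B]

theorem isBC_finsupp {φ : A →+* B} {M N : Type*} [AddCommGroup M] [Module A M] [AddCommGroup N] [Module B N]
    {f : M →+ N} (hf : IsBC φ f) (ι : Type*) : IsBC φ (Finsupp.mapRange.addMonoidHom f : (ι →₀ M) →+ (ι →₀ N)) := by
  classical
  refine IsBC.of_lift (fun a m => ?_) fun Q _ _ g hg => ?_
  · ext i
    simp only [Finsupp.mapRange.addMonoidHom_apply, Finsupp.mapRange_apply, Finsupp.smul_apply, hf.map_smul]
  · have h0 : ∀ i : ι, ∃! g' : N →ₗ[B] Q, ∀ m, g' (f m) = g (Finsupp.single i m) := fun i =>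
      hf.existsUnique_lift (g.comp (Finsupp.singleAddHom i)) (fun a m => by
        change g (Finsupp.single i (a • m)) = φ a • g (Finsupp.single i m)
        rw [← hg, Finsupp.smul_single])
    choose g' h1 h2 using h0
    refine ⟨Finsupp.lsum B g', fun m => ?_, fun g'' hg'' => ?_⟩
    · induction m using Finsupp.induction_linear with
      | zero => simp
      | add x y hx hy => rw [map_add, map_add, hx, hy, map_add]
      | single i m =>
        rw [Finsupp.mapRange.addMonoidHom_apply, Finsupp.mapRange_single, Finsupp.lsum_single]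
        exact h1 i m
    · refine Finsupp.lhom_ext' fun i => ?_
      rw [Finsupp.lsum_comp_lsingle]
      refine h2 i _ fun m => ?_
      rw [← hg'']
      change g'' (Finsupp.single i (f m)) = g'' (Finsupp.mapRange.addMonoidHom f (Finsupp.single i m))
      rw [Finsupp.mapRange.addMonoidHom_apply, Finsupp.mapRange_single]

end BC

section Alg

variable {R R' : Type u} [CommRing R] [CommRing R']

/-- restriction of scalars along a flat ring homomorphism preserves tor dimension -/
theorem hasTorDimLE_restrict [Algebra R R'] [Module.Flat R R'] (n : ℕ) : ∀ (N : Type u) [AddCommGroup N] [Module R' N]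
    [Module R N] [IsScalarTower R R' N], DRing.HasTorDimLE R' n N → DRing.HasTorDimLE R n N := by
  induction n with
  | zero =>
    intro N _ _ _ _ h
    rw [Groth.Agent.Flat2H.TorDim.hasTorDimLE_zero_iff] at h ⊢
    exact Module.Flat.trans R R' N
  | succ n ih =>
    intro N _ _ _ _ h
    let f : (N →₀ R') →ₗ[R'] N := Finsupp.linearCombination R' id
    have hf : Function.Surjective f := Finsupp.linearCombination_id_surjective R' N
    rw [Groth.Agent.Flat2H.TorDim.hasTorDimLE_succ_iff_ker f hf] at h
    haveI : Module.Flat R (N →₀ R') := Module.Flat.trans R R' (N →₀ R')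
    rw [Groth.Agent.Flat2H.TorDim.hasTorDimLE_succ_iff_ker (f.restrictScalars R) hf]
    exact ih (LinearMap.ker f) h

/-- direct summands -/
theorem hasTorDimLE_retract {n : ℕ} {M N : Type u} [AddCommGroup M] [Module R M] [AddCommGroup N] [Module R N]
    (i : N →ₗ[R] M) (r : M →ₗ[R] N) (hir : ∀ x, r (i x) = x) (h : DRing.HasTorDimLE R n M) :
    DRing.HasTorDimLE R n N := by
  intro X _ _ p hp
  haveI := h X p hp
  have h1 : ModuleCat.ofHom i ≫ ModuleCat.ofHom r = 𝟙 _ := by
    ext x
    exact hir x
  have h2 : ((CategoryTheory.Tor (ModuleCat.{u} R) p).map (ModuleCat.ofHom i)).app (ModuleCat.of R X) ≫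
      ((CategoryTheory.Tor (ModuleCat.{u} R) p).map (ModuleCat.ofHom r)).app (ModuleCat.of R X) = 𝟙 _ := by
    rw [← NatTrans.comp_app, ← CategoryTheory.Functor.map_comp, h1, CategoryTheory.Functor.map_id]
    rfl
  refine ⟨fun a b => ?_⟩
  have h3 : ∀ c : DRing.Tor R p N X, (((CategoryTheory.Tor (ModuleCat.{u} R) p).map (ModuleCat.ofHom r)).app
      (ModuleCat.of R X)).hom ((((CategoryTheory.Tor (ModuleCat.{u} R) p).map (ModuleCat.ofHom i)).app
        (ModuleCat.of R X)).hom c) = c := fun c => by
    rw [← ModuleCat.comp_apply, h2]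
    rfl
  rw [← h3 a, ← h3 b]
  congr 1
  exact Subsingleton.elim (α := DRing.Tor R p M X) _ _

/-- **Dimension shifting**: `M` of tor dimension `≤ n + 1`, `ρ : M → M'` over `R → R'` flat with a retraction, where `M'` has
tor dimension `≤ n + 1` over `R`, `a : G → M'` onto with `G` flat: then `M ×_{M'} G` has tor dimension `≤ n`. -/
theorem hasTorDimLE_fibre {n : ℕ} {M M' G P : Type u} [AddCommGroup M] [Module R M] [AddCommGroup M'] [Module R M']
    [AddCommGroup G] [Module R G] [Module.Flat R G] [AddCommGroup P] [Module R P]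
    (ρ : M →ₗ[R] M') (δ : M' →ₗ[R] M) (hδ : ∀ m, δ (ρ m) = m) (a : G →ₗ[R] M') (ha : Function.Surjective a)
    (hM' : DRing.HasTorDimLE R (n + 1) M') (p : P →ₗ[R] M) (q : P →ₗ[R] G)
    (hinj : ∀ x, p x = 0 → q x = 0 → x = 0) (hpq : ∀ x, ρ (p x) = a (q x))
    (hsurj : ∀ m g, ρ m = a g → ∃ x, p x = m ∧ q x = g) : DRing.HasTorDimLE R n P := by
  let Q := LinearMap.ker δ
  let r : M' →ₗ[R] Q := (LinearMap.id - ρ.comp δ).codRestrict Q fun y => by
    rw [LinearMap.mem_ker]
    change δ (y - ρ (δ y)) = 0
    rw [map_sub, hδ, sub_self]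
  have hr : ∀ y, ((r y : Q) : M') = y - ρ (δ y) := fun y => rfl
  have hQ : DRing.HasTorDimLE R (n + 1) Q := hasTorDimLE_retract Q.subtype r (fun x => by
    apply Subtype.ext
    rw [hr]
    change (x : M') - ρ (δ (x : M')) = x
    rw [LinearMap.mem_ker.1 x.2, map_zero, sub_zero]) hM'
  have hq : Function.Injective q := by
    rw [← LinearMap.ker_eq_bot, LinearMap.ker_eq_bot']
    intro x hx
    refine hinj x ?_ hx
    rw [← hδ (p x), hpq, hx, map_zero, map_zero]
  have hs : Function.Surjective (r.comp a) := by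
    intro x
    obtain ⟨g, hg⟩ := ha x
    refine ⟨g, ?_⟩
    apply Subtype.ext
    change a g - ρ (δ (a g)) = x
    rw [hg, LinearMap.mem_ker.1 x.2, map_zero, sub_zero]
  refine Groth.Agent.Flat2H.TorDim.HasTorDimLE.left q (r.comp a) hq hs ?_
    (Groth.Agent.Flat2H.TorDim.HasTorDimLE.of_flat n) hQ
  intro g
  constructor
  · intro hg
    have h1 : a g - ρ (δ (a g)) = 0 := congrArg Subtype.val hg
    obtain ⟨x, -, hx⟩ := hsurj (δ (a g)) g (sub_eq_zero.1 h1).symm
    exact ⟨x, hx⟩
  · rintro ⟨x, rfl⟩
    apply Subtype.ext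
    change a (q x) - ρ (δ (a (q x))) = 0
    rw [← hpq, hδ, sub_self]

end Alg

end K56.RP
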